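import Cfsg.Agent.Lib.TwoTimesAlt.Small
import Cfsg.Agent.Lib.JanOrder.Section

/-!
# Degree five: a simple group of the order of `J₁`
-/

set_option autoImplicit false
set_option linter.unusedSectionVars false
set_option linter.style.haveILetI false

namespace CfsgLib.TwoTimesAlt

open Cfsg CfsgLib.Base CfsgLib.JanOrder

variable {G : Type*} [Group G] [Finite G] {J : G} {T : Subgroup G}

namespace Cfg

variable (D : Cfg J T)

include D

theorem card_C : Nat.card (Subgroup.centralizer ({J} : Set G)) = 2 * Nat.card T := by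
  rw [← Subgroup.card_mul_index (T.subgroupOf (Subgroup.centralizer ({J} : Set G))),
    show (T.subgroupOf (Subgroup.centralizer ({J} : Set G))).index = 2 from D.relIndex_T,
    Nat.card_congr (Subgroup.subgroupOfEquivOfLe D.T_le).toEquiv, mul_comm]

/-- The centralizer as a direct product. -/
noncomputable def prodHom {A : Type*} [Group A] (e : T ≃* A) :
    Multiplicative (ZMod 2) × A →* Subgroup.centralizer ({J} : Set G) where
  toFun x := (if x.1 = 1 then 1 else ⟨J, (D.mem_C).2 rfl⟩) *
    ⟨(e.symm x.2 : G), D.T_le (e.symm x.2).2⟩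
  map_one' := by simp
  map_mul' x y := by
    have hcases : ∀ i : Multiplicative (ZMod 2), i = 1 ∨ i = Multiplicative.ofAdd 1 := by decide
    have hne : Multiplicative.ofAdd (1 : ZMod 2) ≠ 1 := by decide
    have htwo : Multiplicative.ofAdd (1 : ZMod 2) * Multiplicative.ofAdd (1 : ZMod 2) = 1 := by decide
    obtain ⟨i, a⟩ := x
    obtain ⟨j, b⟩ := y
    apply Subtype.ext
    rcases hcases i with rfl | rfl <;> rcases hcases j with rfl | rfl <;>
      simp [hne, htwo]
    all_goals
      have h1 : ∀ z : G, (e.symm a : G) * (J * z) = J * ((e.symm a : G) * z) := fun z => by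
        rw [← mul_assoc, D.comm (e.symm a).2, mul_assoc]
      have h2 : ∀ z : G, J * (J * z) = z := fun z => by rw [← mul_assoc, D.jj, one_mul]
      simp [mul_assoc, h1, h2]

theorem prodHom_bijective {A : Type*} [Group A] (e : T ≃* A) : Function.Bijective (D.prodHom e) := by
  refine ⟨(injective_iff_map_eq_one _).2 fun ⟨i, a⟩ h => ?_, fun c => ?_⟩
  · have h' : (((D.prodHom e) (i, a) : Subgroup.centralizer ({J} : Set G)) : G) = 1 :=
      congrArg Subtype.val h
    simp only [prodHom, MonoidHom.coe_mk, OneHom.coe_mk] at h'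
    by_cases hi : i = 1
    · subst hi
      simp only [if_true, one_mul] at h'
      have : a = 1 := by
        have h2 : e.symm a = 1 := Subtype.ext h'
        rw [← e.apply_symm_apply a, h2, map_one]
      rw [this]
      rfl
    · exfalso
      simp only [hi, if_false, Subgroup.coe_mul] at h'
      exact D.not_mem (by rw [eq_inv_of_mul_eq_one_left h']; exact inv_mem (e.symm a).2)
  · rcases D.cases_C c.2 with h | h
    · refine ⟨(1, e ⟨c, h⟩), Subtype.ext ?_⟩
      simp [prodHom]
    · refine ⟨(Multiplicative.ofAdd 1, e ⟨J * c, h⟩), Subtype.ext ?_⟩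
      have hne : Multiplicative.ofAdd (1 : ZMod 2) ≠ 1 := by decide
      simp [prodHom, hne, ← mul_assoc, D.jj]

/-- Degree five gives a simple group of order `175560`. -/
theorem degree_five (e : T ≃* alternatingGroup (Fin 5)) :
    IsSimpleGroup G ∧ Nat.card G = 175560 ∧
      Nonempty (Subgroup.centralizer ({J} : Set G) ≃* Mdl) := by
  classical
  haveI : Fact (Nat.Prime 2) := ⟨Nat.prime_two⟩
  have hA : SmallAlt T := smallAlt_five.of_equiv e
  haveI : Nontrivial G := ⟨⟨J, 1, D.ne_one⟩⟩
  obtain ⟨N, hN⟩ := exists_isMinimalNormal (G := G)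
  haveI := hN.normal
  obtain ⟨u, huT, hu, -⟩ := D.exists_central_conj
  obtain ⟨hu2, hu1⟩ := D.sq_of_conj hu
  -- `T` lies in `N`
  have hTN : T ≤ N := by
    haveI : IsSimpleGroup T := e.isSimpleGroup_congr.2 alternatingGroup.isSimpleGroup_five
    rcases IsSimpleGroup.eq_bot_or_eq_top_of_normal (N.subgroupOf T) inferInstance with h | h
    · exfalso
      have : (⟨u, huT⟩ : T) ∈ N.subgroupOf T := D.inv_mem_normal hA hN.ne_bot hu2
      rw [h, Subgroup.mem_bot] at this
      exact hu1 (congrArg Subtype.val this)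
    · exact Subgroup.subgroupOf_eq_top.1 h
  have hJN : J ∈ N := D.inv_mem_normal hA hN.ne_bot D.jj
  have hCN : Subgroup.centralizer ({J} : Set G) ≤ N := fun c hc => by
    rcases D.cases_C hc with h | h
    · exact hTN h
    · have := mul_mem hJN (hTN h)
      rwa [← mul_assoc, D.jj, one_mul] at this
  have hnS : ¬ IsPGroup 2 N := by
    intro hp
    obtain ⟨k, hk⟩ := IsPGroup.iff_card.1 (hp.to_le hTN)
    rw [Nat.card_congr e.toEquiv] at hk
    have h60 : Nat.card (alternatingGroup (Fin 5)) = 60 := by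
      rw [Nat.card_eq_fintype_card]; decide +kernel
    rw [h60] at hk
    have h3 : 3 ∣ 2 ^ k := hk ▸ (by norm_num : 3 ∣ 60)
    exact absurd (Nat.le_of_dvd two_pos (Nat.prime_three.dvd_of_dvd_pow h3)) (by norm_num)
  haveI := D.isSimple_minimal hA hN hnS
  -- the configuration inside `N`
  let eC : Subgroup.centralizer ({J} : Set G) ≃* Mdl :=
    (MulEquiv.ofBijective (D.prodHom e) (D.prodHom_bijective e)).symm
  let eN : Subgroup.centralizer ({(⟨J, hJN⟩ : N)} : Set N) ≃* Subgroup.centralizer ({J} : Set G) :=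
    { toFun := fun x => ⟨x.1, (D.mem_C).2
        (congrArg Subtype.val (Subgroup.mem_centralizer_singleton_iff.1 x.2))⟩
      invFun := fun c => ⟨⟨c, hCN c.2⟩,
        Subgroup.mem_centralizer_singleton_iff.2 (Subtype.ext ((D.mem_C).1 c.2))⟩
      left_inv := fun _ => rfl
      right_inv := fun _ => rfl
      map_mul' := fun _ _ => rfl }
  have hord : orderOf (⟨J, hJN⟩ : N) = 2 := by rw [Subgroup.orderOf_mk, D.ord]
  have DN : Cen (⟨J, hJN⟩ : N) :=
    { ord := hord
      central := ⟨hord, D.S.subtype (D.S_le.trans hCN), D.mem,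
        fun x hx => Subtype.ext (D.cent x hx)⟩
      e := eN.trans eC }
  have htop : N = ⊤ := by
    rw [eq_top_iff]
    intro g _
    have hv : orderOf (⟨g * J * g⁻¹, Subgroup.Normal.conj_mem inferInstance J hJN g⟩ : N) = 2 := by
      rw [Subgroup.orderOf_mk, ← MulAut.conj_apply, MulEquiv.orderOf_eq, D.ord]
    obtain ⟨n, hn⟩ := isConj_iff.1 (DN.fusion.1 _ hv)
    have hn' : (n : G) * J * (n : G)⁻¹ = g * J * g⁻¹ := congrArg Subtype.val hn
    have hc : (n : G)⁻¹ * g ∈ N := hCN ((D.mem_C).2 (by
      calc (n : G)⁻¹ * g * J = (n : G)⁻¹ * (g * J * g⁻¹) * g := by group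
        _ = (n : G)⁻¹ * ((n : G) * J * (n : G)⁻¹) * g := by rw [hn']
        _ = J * ((n : G)⁻¹ * g) := by group))
    have := mul_mem n.2 hc
    rwa [mul_inv_cancel_left] at this
  subst htop
  refine ⟨Subgroup.topEquiv.isSimpleGroup_congr.1 inferInstance, ?_, ⟨eC⟩⟩
  rw [← Nat.card_congr Subgroup.topEquiv.toEquiv]
  exact DN.card_eq

end Cfg

end CfsgLib.TwoTimesAlt
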