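import Cfsg.Agent.Lib.TwoTimesAlt.Squares

/-!
# Involutions of alternating groups of degree at least six are products of squares
of two-elements centralizing them
-/

set_option autoImplicit false

namespace CfsgLib.TwoTimesAlt

open Equiv

/-- Two disjoint transpositions of four points. -/
def v4 : Perm (Fin 4) := swap 0 1 * swap 2 3

/-- An odd permutation centralizing `v4`. -/
def a4 : Perm (Fin 4) := swap 0 1

/-- An even permutation centralizing `v4`. -/
def b4 : Perm (Fin 4) := swap 0 2 * swap 1 3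

theorem four_facts : a4 * v4 = v4 * a4 ∧ b4 * v4 = v4 * b4 ∧ Perm.sign a4 = -1 ∧ Perm.sign b4 = 1 ∧
    a4 * b4 * a4⁻¹ * b4⁻¹ = v4 ∧ v4 * v4 = 1 ∧ (∀ i, v4 i ≠ i) ∧
    ∀ σ : Perm (Fin 4), σ * v4 = v4 * σ → σ ^ 8 = 1 := by decide +kernel

variable {k r : ℕ}

/-- Permutations of the blocks and of the remaining points. -/
def blockHom (k r : ℕ) :
    (Fin k → Perm (Fin 4)) × Perm (Fin r) →* Perm ((Fin k × Fin 4) ⊕ Fin r) where
  toFun x := Equiv.sumCongr (prodCongrRight x.1) x.2
  map_one' := by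
    ext x
    rcases x with ⟨i, j⟩ | j <;> simp
  map_mul' x y := by
    ext z
    rcases z with ⟨i, j⟩ | j <;> simp

theorem sign_blockHom (x : (Fin k → Perm (Fin 4)) × Perm (Fin r)) :
    Perm.sign (blockHom k r x) = (∏ i, Perm.sign (x.1 i)) * Perm.sign x.2 := by
  show Perm.sign (Equiv.sumCongr (prodCongrRight x.1) x.2) = _
  rw [Perm.sign_sumCongr, Perm.sign_prodCongrRight]

/-- The canonical involution. -/
def canon (k r : ℕ) : Perm ((Fin k × Fin 4) ⊕ Fin r) := blockHom k r (fun _ => v4, 1)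

theorem canon_sq : canon k r * canon k r = 1 := by
  rw [canon, ← map_mul, ← map_one (blockHom k r)]
  exact congrArg _ (Prod.ext (funext fun _ => four_facts.2.2.2.2.2.1) (one_mul _))

/-- An involution of even sign looks like the canonical one. -/
theorem exists_equiv {m : ℕ} {y : Perm (Fin m)} (h2 : y * y = 1) (hs : Perm.sign y = 1)
    (hy : y ≠ 1) : ∃ k r : ℕ, 1 ≤ k ∧ 4 * k + r = m ∧
      ∃ e : (Fin k × Fin 4) ⊕ Fin r ≃ Fin m, e.permCongr (canon k r) = y := by
  haveI : Fact (Nat.Prime 2) := ⟨Nat.prime_two⟩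
  have hy2 : y ^ 2 = 1 := by rw [pow_two, h2]
  have ht := Perm.cycleType_of_pow_prime_eq_one hy2
  have hsum := Perm.sum_cycleType y
  rw [ht, Multiset.sum_replicate, smul_eq_mul] at hsum
  have hsg := Perm.sign_of_cycleType y
  rw [hs, Perm.sum_cycleType, ← hsum, pow_add, pow_mul'] at hsg
  simp only [neg_one_sq, one_pow, one_mul] at hsg
  obtain ⟨k, hk⟩ : Even (Multiset.card y.cycleType) := by
    by_contra ho
    rw [Nat.not_even_iff_odd] at ho
    rw [ho.neg_one_pow] at hsg
    exact absurd hsg (by decide)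
  have hk1 : 1 ≤ k := by
    by_contra h
    refine hy (Perm.cycleType_eq_zero.1 ?_)
    rw [← Multiset.card_eq_zero]
    omega
  have hle : y.support.card ≤ m := by simpa using Finset.card_le_univ y.support
  refine ⟨k, m - 4 * k, hk1, by omega, ?_⟩
  let e0 : (Fin k × Fin 4) ⊕ Fin (m - 4 * k) ≃ Fin m := Fintype.equivFinOfCardEq (by simp; omega)
  set z := e0.permCongr (canon k (m - 4 * k)) with hz
  have hz2 : z ^ 2 = 1 := by
    rw [pow_two, hz, ← Equiv.permCongr_mul, canon_sq]
    exact map_one e0.permCongrHom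
  have hsupp : z.support = (Finset.univ : Finset (Fin k × Fin 4)).image (fun p => e0 (Sum.inl p)) := by
    ext w
    obtain ⟨x, rfl⟩ := e0.surjective w
    simp only [hz, Perm.mem_support, Equiv.permCongr_apply, Equiv.symm_apply_apply, ne_eq,
      e0.injective.eq_iff, Finset.mem_image, Finset.mem_univ, true_and]
    rcases x with ⟨i, j⟩ | j
    · refine iff_of_true ?_ ⟨(i, j), rfl⟩
      show ¬ (Sum.inl (i, v4 j) = Sum.inl (i, j))
      simpa using four_facts.2.2.2.2.2.2.1 j
    · refine iff_of_false (not_not.2 rfl) ?_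
      rintro ⟨p, hp⟩
      simp at hp
  have hzc : z.support.card = 4 * k := by
    rw [hsupp, Finset.card_image_of_injective (f := fun p => e0 (Sum.inl p)) _
      (fun a b h => Sum.inl_injective (e0.injective h))]
    simp [mul_comm]
  have ht' := Perm.cycleType_of_pow_prime_eq_one hz2
  have hsum' := Perm.sum_cycleType z
  rw [ht', Multiset.sum_replicate, smul_eq_mul] at hsum'
  have hconj : IsConj z y := by
    rw [Perm.isConj_iff_cycleType_eq, ht, ht']
    congr 1
    omega
  obtain ⟨π, hπ⟩ := isConj_iff.1 hconj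
  refine ⟨e0.trans π, ?_⟩
  rw [← hπ, hz]
  ext x
  simp

/-- The pairs of permutations centralizing the canonical involution. -/
def blockGroup (k r : ℕ) (τ : Perm (Fin r)) : Subgroup ((Fin k → Perm (Fin 4)) × Perm (Fin r)) :=
  Subgroup.prod (Subgroup.pi Set.univ fun _ => Subgroup.centralizer ({v4} : Set (Perm (Fin 4))))
    (Subgroup.zpowers τ)

/-- The odd or trivial partner permutation of the remaining points. -/
theorem exists_tau {m : ℕ} (hm : 6 ≤ m) (hkr : 4 * k + r = m) : ∃ τ : Perm (Fin r), τ * τ = 1 ∧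
    ∀ i : Fin k, ∃ f : Fin k → Perm (Fin 4), ∃ p ∈ Subgroup.zpowers τ,
      (∀ l, f l * v4 = v4 * f l) ∧ f i = a4 ∧ (∏ l, Perm.sign (f l)) * Perm.sign p = 1 := by
  classical
  by_cases hk : 2 ≤ k
  · refine ⟨1, one_mul _, fun i => ?_⟩
    haveI : Nontrivial (Fin k) := Fin.nontrivial_iff_two_le.2 hk
    obtain ⟨j, hj⟩ := exists_ne i
    refine ⟨Pi.mulSingle i a4 * Pi.mulSingle j a4, 1, one_mem _, fun l => ?_, ?_, ?_⟩
    · have hl : ∀ i' : Fin k, (Pi.mulSingle i' a4 : Fin k → Perm (Fin 4)) l = a4 ∨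
          (Pi.mulSingle i' a4 : Fin k → Perm (Fin 4)) l = 1 := fun i' => by
        by_cases e : l = i'
        · subst e; exact Or.inl (Pi.mulSingle_eq_same _ _)
        · exact Or.inr (Pi.mulSingle_eq_of_ne e _)
      have hc : Commute a4 v4 := four_facts.1
      rw [Pi.mul_apply]
      rcases hl i with e | e <;> rcases hl j with e' | e' <;> rw [e, e']
      · exact hc.mul_left hc
      · exact hc.mul_left (Commute.one_left _)
      · exact (Commute.one_left v4).mul_left hc
      · exact (Commute.one_left v4).mul_left (Commute.one_left _)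
    · rw [Pi.mul_apply, Pi.mulSingle_eq_same, Pi.mulSingle_eq_of_ne hj.symm, mul_one]
    · have hs : ∀ i' : Fin k, ∏ l, Perm.sign ((Pi.mulSingle i' a4 : Fin k → Perm (Fin 4)) l) = -1 :=
        fun i' => by
          rw [Finset.prod_eq_single i' (fun l _ hl => by rw [Pi.mulSingle_eq_of_ne hl, map_one])
            (fun h => absurd (Finset.mem_univ _) h), Pi.mulSingle_eq_same, four_facts.2.2.1]
      simp only [Pi.mul_apply, map_mul, Finset.prod_mul_distrib, hs, map_one]
      decide
  · have hr : 2 ≤ r := by omega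
    let u : Fin r := ⟨0, by omega⟩
    let v : Fin r := ⟨1, by omega⟩
    have huv : u ≠ v := by simp [u, v]
    refine ⟨swap u v, swap_mul_self u v, fun i => ⟨fun _ => a4, swap u v,
      Subgroup.mem_zpowers _, fun _ => four_facts.1, rfl, ?_⟩⟩
    haveI : Subsingleton (Fin k) := Fin.subsingleton_iff_le_one.2 (by omega)
    rw [Fintype.prod_subsingleton _ i, four_facts.2.2.1, Perm.sign_swap huv]
    decide

/-- An involution of an alternating group of degree at least six is a product of squares in a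
two-subgroup centralizing it. -/
theorem exists_two_group {m : ℕ} (hm : 6 ≤ m) (y : alternatingGroup (Fin m)) (h2 : y * y = 1)
    (hy : y ≠ 1) : ∃ Q : Subgroup (alternatingGroup (Fin m)), IsPGroup 2 Q ∧
      (∀ q ∈ Q, q * y = y * q) ∧ y ∈ sqSub Q := by
  classical
  obtain ⟨k, r, -, hkr, e, he⟩ := exists_equiv (y := (y : Perm (Fin m)))
    (congrArg Subtype.val h2) (Perm.mem_alternatingGroup.1 y.2)
    (fun h => hy (Subtype.ext h))
  obtain ⟨τ, hτ, hpart⟩ := exists_tau (k := k) (r := r) hm hkr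
  set Ψ : (Fin k → Perm (Fin 4)) × Perm (Fin r) →* Perm (Fin m) :=
    (e.permCongrHom.toMonoidHom).comp (blockHom k r) with hΨ
  have hΨa : ∀ x, Ψ x = e.permCongr (blockHom k r x) := fun x => rfl
  set H := blockGroup k r τ with hH
  have hsign : ∀ x, Perm.sign (Ψ x) = (∏ i, Perm.sign (x.1 i)) * Perm.sign x.2 := fun x => by
    rw [hΨa, Perm.sign_permCongr, sign_blockHom]
  have hmem : ∀ x : (Fin k → Perm (Fin 4)) × Perm (Fin r),
      x ∈ H ↔ (∀ l, x.1 l * v4 = v4 * x.1 l) ∧ x.2 ∈ Subgroup.zpowers τ := fun x => by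
    simp only [hH, blockGroup, Subgroup.mem_prod, Subgroup.mem_pi, Set.mem_univ, forall_true_left,
      Subgroup.mem_centralizer_singleton_iff]
  have h8 : ∀ x ∈ H, x ^ 8 = 1 := fun x hx => by
    obtain ⟨h1, hp⟩ := (hmem x).1 hx
    refine Prod.ext (funext fun l => four_facts.2.2.2.2.2.2.2 _ (h1 l)) ?_
    obtain ⟨j, hj⟩ := hp
    show x.2 ^ 8 = 1
    rw [← hj, ← zpow_natCast, zpow_comm, zpow_natCast, show (8 : ℕ) = 2 * 4 from rfl, pow_mul,
      pow_two, hτ, one_pow, one_zpow]
  set Q : Subgroup (alternatingGroup (Fin m)) := (H.map Ψ).subgroupOf (alternatingGroup (Fin m))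
    with hQ
  refine ⟨Q, fun q => ⟨3, ?_⟩, fun q hq => ?_, ?_⟩
  · obtain ⟨x, hx, hxq⟩ := Subgroup.mem_subgroupOf.1 q.2
    apply Subtype.ext
    apply Subtype.ext
    show ((q : alternatingGroup (Fin m)) : Perm (Fin m)) ^ (2 ^ 3) = 1
    rw [← hxq, ← map_pow, show (2 : ℕ) ^ 3 = 8 from rfl, h8 x hx, map_one]
  · obtain ⟨x, hx, hxq⟩ := Subgroup.mem_subgroupOf.1 hq
    apply Subtype.ext
    show (q : Perm (Fin m)) * (y : Perm (Fin m)) = (y : Perm (Fin m)) * q
    rw [← hxq, ← he, canon, ← hΨa (fun _ => v4, 1), ← map_mul, ← map_mul]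
    exact congrArg _ (Prod.ext (funext fun l => ((hmem x).1 hx).1 l) (by simp))
  · -- every block
    have hlift : ∀ x ∈ H, Perm.sign (Ψ x) = 1 → ∃ q ∈ Q, (q : Perm (Fin m)) = Ψ x := fun x hx hs =>
      ⟨⟨Ψ x, Perm.mem_alternatingGroup.2 hs⟩, Subgroup.mem_subgroupOf.2 ⟨x, hx, rfl⟩, rfl⟩
    have hone : ∀ i, ∃ q ∈ sqSub Q, (q : Perm (Fin m)) = Ψ (Pi.mulSingle i v4, 1) := by
      intro i
      obtain ⟨f, p, hp, hf, hfi, hs⟩ := hpart i
      obtain ⟨g, hg, hge⟩ := hlift (f, p) ((hmem _).2 ⟨hf, hp⟩) (by rw [hsign]; exact hs)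
      have hb : ∀ l, (Pi.mulSingle i b4 : Fin k → Perm (Fin 4)) l * v4 =
          v4 * (Pi.mulSingle i b4 : Fin k → Perm (Fin 4)) l := fun l => by
        by_cases hl : l = i
        · subst hl; rw [Pi.mulSingle_eq_same]; exact four_facts.2.1
        · rw [Pi.mulSingle_eq_of_ne hl, one_mul, mul_one]
      obtain ⟨h, hh, hhe⟩ := hlift (Pi.mulSingle i b4, 1) ((hmem _).2 ⟨hb, one_mem _⟩) (by
        rw [hsign]
        simp only [map_one, mul_one]
        refine Finset.prod_eq_one fun l _ => ?_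
        by_cases hl : l = i
        · subst hl; rw [Pi.mulSingle_eq_same]; exact four_facts.2.2.2.1
        · rw [Pi.mulSingle_eq_of_ne hl, map_one])
      refine ⟨g * h * g⁻¹ * h⁻¹, commutator_mem hg hh, ?_⟩
      push_cast
      rw [hge, hhe, ← map_inv, ← map_inv, ← map_mul, ← map_mul, ← map_mul]
      refine congrArg _ (Prod.ext (funext fun l => ?_) (by simp))
      by_cases hl : l = i
      · subst hl
        simp [hfi, four_facts.2.2.2.2.1]
      · simp [Pi.mulSingle_eq_of_ne hl]
    have hall : ∀ s : Finset (Fin k), ∃ q ∈ sqSub Q,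
        (q : Perm (Fin m)) = Ψ (fun l => if l ∈ s then v4 else 1, 1) := by
      intro s
      induction s using Finset.induction with
      | empty =>
        refine ⟨1, one_mem _, ?_⟩
        rw [OneMemClass.coe_one, ← map_one Ψ]
        exact congrArg _ (Prod.ext (funext fun l => by simp) rfl)
      | @insert i s hi ih =>
        obtain ⟨q, hq, hqe⟩ := ih
        obtain ⟨q', hq', hq'e⟩ := hone i
        refine ⟨q' * q, mul_mem hq' hq, ?_⟩
        push_cast
        rw [hq'e, hqe, ← map_mul]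
        refine congrArg _ (Prod.ext (funext fun l => ?_) (mul_one _))
        by_cases hl : l = i
        · subst hl; simp [hi]
        · simp [Pi.mulSingle_eq_of_ne hl, hl]
    obtain ⟨q, hq, hqe⟩ := hall Finset.univ
    have : q = y := Subtype.ext (by rw [hqe, ← he, canon, ← hΨa]; simp)
    exact this ▸ hq

end CfsgLib.TwoTimesAlt
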