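import Cfsg.Agent.Lib.TwoTimesAlt.Five
import Cfsg.Agent.S3189
import Cfsg.Agent.Lib.Involutions.ElemAbCentPSL
import Cfsg.Agent.Lib.KnownB.PSLAut.Out
import Cfsg.Agent.Lib.Classical.Order

/-!
# Degree four: the automorphism group of `PSL(2,8)`
-/

set_option autoImplicit false
set_option linter.unusedSectionVars false
set_option linter.style.haveILetI false

namespace CfsgLib.TwoTimesAlt

open Cfsg CfsgLib.Base
open scoped Pointwise

set_option synthInstance.maxSize 20000 in
set_option synthInstance.maxHeartbeats 400000 in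
set_option maxRecDepth 4000 in
theorem four_alt :
    (∀ a b : alternatingGroup (Fin 4), a * a = 1 → b * b = 1 → a * b * (a * b) = 1) ∧
    (∀ t : alternatingGroup (Fin 4), t * t ≠ 1 → ∀ a, ∃ b,
      b * b = 1 ∧ (a = b ∨ a = b * t ∨ a = b * (t * t))) ∧
    (∀ a : alternatingGroup (Fin 4), a * a ≠ 1 → ∃ b, b * b = 1 ∧ a * b ≠ b * a) ∧
    (∃ a : alternatingGroup (Fin 4), a * a ≠ 1 ∧ a ^ 3 = 1) ∧
    Fintype.card (alternatingGroup (Fin 4)) = 12 := by decide +kernel

variable {G : Type*} [Group G] [Finite G] {J : G} {T : Subgroup G}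

namespace Cfg

variable (D : Cfg J T) (e : T ≃* alternatingGroup (Fin 4))

include D e

theorem sq_mul {a b : G} (ha : a ∈ T) (hb : b ∈ T) (ha2 : a * a = 1) (hb2 : b * b = 1) :
    a * b * (a * b) = 1 := by
  have h := four_alt.1 (e ⟨a, ha⟩) (e ⟨b, hb⟩) (by rw [← map_mul, ← map_one e]; congr 1; exact Subtype.ext ha2)
    (by rw [← map_mul, ← map_one e]; congr 1; exact Subtype.ext hb2)
  rw [← map_mul, ← map_mul, ← map_one e] at h
  exact congrArg Subtype.val (e.injective h)

/-- The Sylow subgroup is the set of elements of the centralizer squaring to one. -/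
theorem mem_S_iff {c : G} : c ∈ (D.S : Subgroup G) ↔
    c ∈ Subgroup.centralizer ({J} : Set G) ∧ c * c = 1 := by
  have hA : SmallAlt T := smallAlt_four.of_equiv e
  refine ⟨fun h => ⟨D.S_le h, D.sq_S hA h⟩, fun ⟨hc, hc2⟩ => ?_⟩
  let X : Subgroup G :=
    { carrier := {c | c ∈ Subgroup.centralizer ({J} : Set G) ∧ c * c = 1}
      one_mem' := ⟨one_mem _, one_mul _⟩
      inv_mem' := fun {a} ha => ⟨inv_mem ha.1, by rw [← mul_inv_rev, ha.2, inv_one]⟩
      mul_mem' := fun {a b} ha hb => ⟨mul_mem ha.1 hb.1, by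
        have hJJ : ∀ z : G, J * (J * z) = z := fun z => by rw [← mul_assoc, D.jj, one_mul]
        have hca : ∀ z : G, a * (J * z) = J * (a * z) := fun z => by
          rw [← mul_assoc, (D.mem_C).1 ha.1, mul_assoc]
        have hcb : ∀ z : G, b * (J * z) = J * (b * z) := fun z => by
          rw [← mul_assoc, (D.mem_C).1 hb.1, mul_assoc]
        have hsa : J * a * (J * a) = 1 := by rw [mul_assoc, hca, hJJ, ha.2]
        have hsb : J * b * (J * b) = 1 := by rw [mul_assoc, hcb, hJJ, hb.2]
        rcases D.cases_C ha.1 with h | h <;> rcases D.cases_C hb.1 with h' | h'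
        · exact D.sq_mul e h h' ha.2 hb.2
        · have h3 := D.sq_mul e h h' ha.2 hsb
          simpa [mul_assoc, hca, hcb, hJJ] using h3
        · have h3 := D.sq_mul e h h' hsa hb.2
          simpa [mul_assoc, hca, hcb, hJJ] using h3
        · have h3 := D.sq_mul e h h' hsa hsb
          simpa [mul_assoc, hca, hcb, hJJ] using h3⟩ }
  have hX : IsPGroup 2 X := fun x => ⟨1, Subtype.ext (by
    show (x : G) ^ (2 ^ 1) = 1
    rw [pow_one, pow_two]
    exact x.2.2)⟩
  exact (D.S.3 hX fun s hs => ⟨D.S_le hs, D.sq_S hA hs⟩).le (show c ∈ X from ⟨hc, hc2⟩)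

theorem S_card : Nat.card (D.S : Subgroup G) = 8 := by
  haveI : Fact (Nat.Prime 2) := ⟨Nat.prime_two⟩
  have hC : Nat.card (Subgroup.centralizer ({J} : Set G)) = 24 := by
    rw [D.card_C, Nat.card_congr e.toEquiv, Nat.card_eq_fintype_card, four_alt.2.2.2.2]
  obtain ⟨k, hk⟩ := IsPGroup.iff_card.1 D.S.2
  have hd : 2 ^ k ∣ 24 := by rw [← hk, ← hC]; exact Subgroup.card_dvd_of_le D.S_le
  have h8 : (8 : ℕ) ∣ 2 ^ k := by
    rw [← hk]
    refine D.S.pow_dvd_card_of_pow_dvd_card (n := 3) ?_
    exact (show 2 ^ 3 ∣ Nat.card (Subgroup.centralizer ({J} : Set G)) by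
      rw [hC]; norm_num).trans (Subgroup.card_subgroup_dvd_card _)
  have h1 : 2 ^ k ≤ 24 := Nat.le_of_dvd (by norm_num) hd
  have h2 : k ≤ 4 := by
    by_contra h
    have := Nat.pow_le_pow_right (show 1 ≤ 2 by norm_num) (show 5 ≤ k by omega)
    omega
  rw [hk]
  interval_cases k <;> omega

/-- The minimal normal subgroup meets the centralizer in elements squaring to one. -/
theorem cases_N {N : Subgroup G} [N.Normal] (hN : N ≠ ⊥) :
    Subgroup.centralizer ({J} : Set G) ≤ N ∨
      ∀ c ∈ Subgroup.centralizer ({J} : Set G), c ∈ N → c * c = 1 := by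
  by_contra h
  rw [not_or] at h
  obtain ⟨h1, h2⟩ := h
  push Not at h2
  obtain ⟨c, hc, hcN, hc2⟩ := h2
  have hA : SmallAlt T := smallAlt_four.of_equiv e
  have hJN : J ∈ N := D.inv_mem_normal hA hN D.jj
  obtain ⟨t, htT, htN, ht2⟩ : ∃ t ∈ T, t ∈ N ∧ t * t ≠ 1 := by
    rcases D.cases_C hc with h | h
    · exact ⟨c, h, hcN, hc2⟩
    · refine ⟨J * c, h, mul_mem hJN hcN, fun h' => hc2 ?_⟩
      rw [← h', mul_assoc, ← mul_assoc c J, (D.mem_C).1 hc, mul_assoc J c, ← mul_assoc J J, D.jj, one_mul]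
  have hTN : T ≤ N := fun a ha => by
    obtain ⟨b, hb2, hb⟩ := four_alt.2.1 (e ⟨t, htT⟩) (fun h' => ht2 (by
      rw [← map_mul, ← map_one e] at h'
      exact congrArg Subtype.val (e.injective h'))) (e ⟨a, ha⟩)
    have hbN : (e.symm b : G) ∈ N := D.inv_mem_normal hA hN (by
      rw [← Subgroup.coe_mul, ← map_mul, hb2, map_one]; rfl)
    rcases hb with hb | hb | hb
    · have := congrArg (fun z => (e.symm z : G)) hb
      simp only [e.symm_apply_apply] at this
      exact this ▸ hbN
    · have := congrArg (fun z => (e.symm z : G)) hb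
      simp only [e.symm_apply_apply, map_mul, Subgroup.coe_mul] at this
      exact this ▸ mul_mem hbN htN
    · have := congrArg (fun z => (e.symm z : G)) hb
      simp only [e.symm_apply_apply, map_mul, Subgroup.coe_mul] at this
      exact this ▸ mul_mem hbN (mul_mem htN htN)
  refine h1 fun x hx => ?_
  rcases D.cases_C hx with h | h
  · exact hTN h
  · have := mul_mem hJN (hTN h)
    rwa [← mul_assoc, D.jj, one_mul] at this

theorem not_two_group (hns : ¬ Group.IsSolvable G) {N : Subgroup G} [N.Normal] (hN : N ≠ ⊥) :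
    ¬ IsPGroup 2 N := by
  intro hp
  haveI : Fact (Nat.Prime 2) := ⟨Nat.prime_two⟩
  have hA : SmallAlt T := smallAlt_four.of_equiv e
  have hNS : N = (D.S : Subgroup G) := D.S.3 hp (D.S_le_normal hA hN)
  have hcls : Nat.card {x : G // IsConj J x} = 7 := by
    have hbij : Nat.card {x : G // IsConj J x} = Nat.card {x : N // x ≠ 1} :=
      Nat.card_congr
        { toFun := fun x => ⟨⟨x.1, D.inv_mem_normal hA hN (D.sq_of_conj x.2).1⟩,
            fun h => (D.sq_of_conj x.2).2 (congrArg Subtype.val h)⟩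
          invFun := fun x => ⟨x.1.1, D.all_conj hA (D.sq_S hA (hNS ▸ x.1.2))
            fun h => x.2 (Subtype.ext h)⟩
          left_inv := fun _ => rfl
          right_inv := fun _ => rfl }
    haveI := Fintype.ofFinite N
    classical
    rw [hbij, Nat.card_eq_fintype_card, Fintype.card_subtype_compl, Fintype.card_subtype_eq,
      ← Nat.card_eq_fintype_card, hNS, D.S_card e]
  have hG : Nat.card G = 168 := by
    rw [← CfsgLib.Chars.card_isConj_mul_card_centralizer J, hcls, D.card_C, Nat.card_congr e.toEquiv,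
      Nat.card_eq_fintype_card, four_alt.2.2.2.2]
  have hq : Nat.card (G ⧸ N) = 3 ^ 1 * 7 ^ 1 := by
    have := N.card_mul_index
    rw [hG, hNS, D.S_card e, ← hNS, Subgroup.index_eq_card] at this
    omega
  haveI := CfsgLib.Chars.isSolvable_of_card_eq_pow_mul_pow (G := G ⧸ N) Nat.prime_three
    (by norm_num : Nat.Prime 7) hq
  haveI : Group.IsNilpotent N := hp.isNilpotent
  exact hns (Group.isSolvable_of_ker_le_range N.subtype (QuotientGroup.mk' N) (by simp))

/-- Degree four gives the automorphism group of `PSL(2,8)`. -/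
theorem degree_four (hns : ¬ Group.IsSolvable G) :
    ∃ (F : Type) (_ : Field F) (_ : Fintype F), Fintype.card F = 8 ∧
      Nonempty (G ≃* MulAut (Matrix.ProjectiveSpecialLinearGroup (Fin 2) F)) := by
  classical
  haveI : Fact (Nat.Prime 2) := ⟨Nat.prime_two⟩
  have hA : SmallAlt T := smallAlt_four.of_equiv e
  haveI : Nontrivial G := ⟨⟨J, 1, D.ne_one⟩⟩
  obtain ⟨N, hN⟩ := exists_isMinimalNormal (G := G)
  haveI := hN.normal
  have hnS := D.not_two_group e hns hN.ne_bot
  haveI := D.isSimple_minimal hA hN hnS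
  have hJN : J ∈ N := D.inv_mem_normal hA hN.ne_bot D.jj
  have hSN := D.S_le_normal hA hN.ne_bot
  have hS8 := D.S_card e
  set SN : Sylow 2 N := D.S.subtype hSN with hSNdef
  have hmemSN : ∀ x : N, x ∈ (SN : Subgroup N) ↔ (x : G) ∈ (D.S : Subgroup G) := fun x => by
    rw [hSNdef, Sylow.coe_subtype, Subgroup.mem_subgroupOf]
  have hSN8 : Nat.card (SN : Subgroup N) = 8 := by
    rw [hSNdef, Sylow.coe_subtype, Nat.card_congr (Subgroup.subgroupOfEquivOfLe hSN).toEquiv, hS8]
  have hSNel : IsElementaryAbelian 2 (SN : Subgroup N) :=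
    ⟨⟨⟨fun a b => Subtype.ext (Subtype.ext (D.comm_S hA ((hmemSN _).1 a.2) ((hmemSN _).1 b.2)))⟩⟩,
      fun a ha => Subtype.ext (by
        show ((a : G)) ^ 2 = 1
        rw [pow_two]
        exact D.sq_S hA ((hmemSN _).1 ha))⟩
  have hna : ¬ IsMulCommutative N := fun hab => by
    haveI : Group.IsSolvable N := Group.isSolvable_of_comm fun a b => hab.is_comm.comm a b
    obtain ⟨p, hp, -, hexp, hpg⟩ := hN.exists_prime inferInstance
    have hp2 : p = 2 := by
      have := orderOf_dvd_of_pow_eq_one (hexp J hJN)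
      rw [D.ord] at this
      exact ((Nat.prime_dvd_prime_iff_eq Nat.prime_two hp).1 this).symm
    exact hnS (hp2 ▸ hpg)
  -- centralizers of involutions of `N`
  have htrans : ∀ v : N, orderOf v = 2 → ∃ g : G, g * (v : G) * g⁻¹ = J := fun v hv => by
    have h2 : (v : G) * v = 1 := by
      rw [← Subgroup.orderOf_coe] at hv
      rw [← pow_two, ← hv, pow_orderOf_eq_one]
    have h1 : (v : G) ≠ 1 := fun h => by
      rw [← Subgroup.orderOf_coe, h, orderOf_one] at hv
      norm_num at hv
    exact isConj_iff.1 (D.all_conj hA h2 h1).symm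
  have hcen : ∀ (v : N) (g : G), g * (v : G) * g⁻¹ = J →
      ∀ x ∈ Subgroup.centralizer ({v} : Set N),
        g * (x : G) * g⁻¹ ∈ Subgroup.centralizer ({J} : Set G) ∧ g * (x : G) * g⁻¹ ∈ N := by
    intro v g hg x hx
    have hxv : (x : G) * v = v * x :=
      congrArg Subtype.val (Subgroup.mem_centralizer_singleton_iff.1 hx)
    refine ⟨(D.mem_C).2 ?_, Subgroup.Normal.conj_mem inferInstance _ x.2 g⟩
    rw [← hg]
    calc g * (x : G) * g⁻¹ * (g * v * g⁻¹) = g * ((x : G) * v) * g⁻¹ := by group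
      _ = g * ((v : G) * x) * g⁻¹ := by rw [hxv]
      _ = g * v * g⁻¹ * (g * x * g⁻¹) := by group
  rcases D.cases_N e hN.ne_bot with hCN | hsq
  · -- the simple group would have solvable centralizers `2 × A₄`
    exfalso
    haveI : Group.IsSolvable (Subgroup.centralizer ({J} : Set G)) :=
      CfsgLib.Chars.isSolvable_of_card_eq_pow_mul_pow (p := 2) (q := 3) (a := 3) (b := 1)
        Nat.prime_two Nat.prime_three
        (by rw [D.card_C, Nat.card_congr e.toEquiv, Nat.card_eq_fintype_card, four_alt.2.2.2.2]; norm_num)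
    have hsol : ∀ v : N, orderOf v = 2 → Group.IsSolvable (Subgroup.centralizer ({v} : Set N)) := by
      intro v hv
      obtain ⟨g, hg⟩ := htrans v hv
      let f : Subgroup.centralizer ({v} : Set N) →* Subgroup.centralizer ({J} : Set G) :=
        { toFun := fun x => ⟨g * ((x : N) : G) * g⁻¹, (hcen v g hg x x.2).1⟩
          map_one' := Subtype.ext (by simp)
          map_mul' := fun x y => Subtype.ext (by
            show g * (((x : N) : G) * ((y : N) : G)) * g⁻¹ = g * x * g⁻¹ * (g * y * g⁻¹)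
            group) }
      refine Group.isSolvable_of_isSolvable_injective (f := f) fun a b hab => ?_
      have := congrArg Subtype.val hab
      exact Subtype.ext (Subtype.ext (by simpa [f] using this))
    have h7 := Cfsg.Agent.S3189.result hna SN hSNel hSN8 hsol
    obtain ⟨a, ha2, ha3⟩ := four_alt.2.2.2.1
    set c : G := (e.symm a : G) with hc
    have hcT : c ∈ T := (e.symm a).2
    have hcC : c ∈ Subgroup.centralizer ({J} : Set G) := D.T_le hcT
    set c' : N := ⟨c, hCN hcC⟩ with hc'
    have hc3 : c' ^ 3 = 1 := Subtype.ext (by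
      show c ^ 3 = 1
      rw [hc, ← SubgroupClass.coe_pow, ← map_pow, ha3, map_one]
      rfl)
    have hcn : c' ∈ Subgroup.normalizer ((SN : Subgroup N) : Set N) := by
      rw [Subgroup.mem_normalizer_iff]
      intro x
      rw [hmemSN, hmemSN, D.mem_S_iff e, D.mem_S_iff e]
      show _ ↔ c * (x : G) * c⁻¹ ∈ _ ∧ c * (x : G) * c⁻¹ * (c * (x : G) * c⁻¹) = 1
      rw [show c * (x : G) * c⁻¹ * (c * (x : G) * c⁻¹) = c * ((x : G) * x) * c⁻¹ by group,
        mul_inv_eq_one, mul_eq_left, Subgroup.mul_mem_cancel_right _ (inv_mem hcC),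
        Subgroup.mul_mem_cancel_left _ hcC]
    set P : Subgroup N := (SN : Subgroup N) with hP
    set φ := P.normalizerMonoidHom with hφ
    have hrange : Nat.card φ.range = 7 := by
      rw [← h7, hφ, ← Subgroup.index_ker, Subgroup.normalizerMonoidHom_ker]
      rfl
    have h1 : (⟨φ ⟨c', hcn⟩, ⟨_, rfl⟩⟩ : φ.range) = 1 := by
      rw [← orderOf_eq_one_iff]
      have e3 : (⟨φ ⟨c', hcn⟩, ⟨_, rfl⟩⟩ : φ.range) ^ 3 = 1 := Subtype.ext (by
        show φ ⟨c', hcn⟩ ^ 3 = 1
        rw [← map_pow, show (⟨c', hcn⟩ : Subgroup.normalizer (P : Set N)) ^ 3 = 1 from Subtype.ext hc3,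
          map_one])
      have hd7 := hrange ▸ orderOf_dvd_natCard (⟨φ ⟨c', hcn⟩, ⟨_, rfl⟩⟩ : φ.range)
      exact Nat.eq_one_of_dvd_coprimes (by norm_num : Nat.Coprime 3 7) (orderOf_dvd_of_pow_eq_one e3) hd7
    obtain ⟨b, hb2, hab⟩ := four_alt.2.2.1 a ha2
    have hbS : (e.symm b : G) ∈ (D.S : Subgroup G) := (D.mem_S_iff e).2
      ⟨D.T_le (e.symm b).2, by rw [← Subgroup.coe_mul, ← map_mul, hb2, map_one]; rfl⟩
    have hker : (⟨c', hcn⟩ : Subgroup.normalizer (P : Set N)) ∈ φ.ker := congrArg Subtype.val h1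
    rw [hφ, Subgroup.normalizerMonoidHom_ker, Subgroup.mem_subgroupOf] at hker
    have hcomm := congrArg Subtype.val
      (Subgroup.mem_centralizer_iff.1 hker ⟨_, hSN hbS⟩ ((hmemSN _).2 hbS))
    refine hab (e.symm.injective (Subtype.ext ?_))
    rw [map_mul, map_mul]
    exact hcomm.symm
  · -- the simple group is `PSL(2,8)`
    have hC : ∀ v : N, orderOf v = 2 → IsMulCommutative (Subgroup.centralizer ({v} : Set N)) ∧
        ∀ c ∈ Subgroup.centralizer ({v} : Set N), c ^ 2 = 1 := by
      intro v hv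
      obtain ⟨g, hg⟩ := htrans v hv
      have hsq' : ∀ c ∈ Subgroup.centralizer ({v} : Set N), c * c = 1 := fun c hc => by
        obtain ⟨h1, h2⟩ := hcen v g hg c hc
        have h3 := hsq _ h1 h2
        rw [show g * (c : G) * g⁻¹ * (g * (c : G) * g⁻¹) = g * ((c : G) * c) * g⁻¹ by group,
          mul_inv_eq_one, mul_eq_left] at h3
        exact Subtype.ext h3
      refine ⟨⟨⟨fun a b => ?_⟩⟩, fun c hc => by rw [pow_two]; exact hsq' c hc⟩
      have ha := hsq' a a.2
      have hb := hsq' b b.2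
      have hab := hsq' _ (mul_mem a.2 b.2)
      apply Subtype.ext
      calc (a : N) * b = a * (a * b * (a * b)) * b := by rw [hab, mul_one]
        _ = ((a : N) * a) * (b * a) * (b * b) := by group
        _ = b * a := by rw [ha, hb, one_mul, mul_one]
    have hnc : ¬ IsCyclic (SN : Subgroup N) := fun hcy => by
      obtain ⟨x, hx⟩ := hcy.exists_generator
      have h8 := orderOf_eq_card_of_forall_mem_zpowers hx
      rw [hSN8] at h8
      have : orderOf x ∣ 2 := orderOf_dvd_of_pow_eq_one (Subtype.ext (hSNel.2 _ x.2))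
      rw [h8] at this
      norm_num at this
    have hnn : ¬ (SN : Subgroup N).Normal := fun hn => by
      rcases IsSimpleGroup.eq_bot_or_eq_top_of_normal _ hn with h | h
      · rw [h] at hSN8; simp at hSN8
      · exact hna ⟨⟨fun a b => congrArg Subtype.val (hSNel.1.is_comm.comm
          ⟨a, h ▸ Subgroup.mem_top a⟩ ⟨b, h ▸ Subgroup.mem_top b⟩)⟩⟩
    obtain ⟨k, hk, hF, ⟨ε⟩⟩ := (CfsgLib.Involutions.ElemAbCent.mk (T := SN) hnc hnn hC).exists_iso_PSL
    let _ : Fintype (GaloisField 2 k) := Fintype.ofFinite _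
    have hF8 : Fintype.card (GaloisField 2 k) = 8 := by
      rw [← Nat.card_eq_fintype_card, hF]; exact hSN8
    refine ⟨GaloisField 2 k, inferInstance, inferInstance, hF8, ?_⟩
    -- counting
    set P := Matrix.ProjectiveSpecialLinearGroup (Fin 2) (GaloisField 2 k)
    have hgal : Nat.card (GaloisField 2 k ≃+* GaloisField 2 k) = 3 :=
      CfsgLib.KnownB.PSLAut.card_gal (p := 2) (f := 3) (by norm_num) (by rw [hF8]; norm_num)
    have hPGL : Nat.card (Matrix.ProjGenLinGroup (Fin 2) (GaloisField 2 k)) = Nat.card P := by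
      have h := CfsgLib.Classical.card_PSL_mul (F := GaloisField 2 k) 2 (by norm_num)
      rw [Nat.card_eq_fintype_card (α := GaloisField 2 k), hF8, show Nat.gcd 2 (8 - 1) = 1 from rfl,
        one_mul] at h
      rw [CfsgLib.Classical.card_PGL_eq_card_SL, h]
    have hAut : Nat.card (MulAut N) = 3 * Nat.card N := by
      rw [Nat.card_congr (MulAut.congr ε).toEquiv, CfsgLib.KnownB.PSLAut.card_aut_two, hgal, hPGL,
        Nat.card_congr ε.toEquiv]
    let ψ : G →* MulAut N := MulAut.conjNormal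
    have hinj : Function.Injective ψ := by
      rw [← MonoidHom.ker_eq_bot_iff]
      by_contra hne
      haveI : ψ.ker.Normal := inferInstance
      have hJk : J ∈ ψ.ker := D.inv_mem_normal hA hne D.jj
      have hJc : (⟨J, hJN⟩ : N) ∈ Subgroup.center N := Subgroup.mem_center_iff.2 fun y => by
        have h := congrArg (fun f : MulAut N => ((f y : N) : G)) (MonoidHom.mem_ker.1 hJk)
        simp only [ψ, MulAut.conjNormal_apply, MulAut.one_apply] at h
        exact Subtype.ext (mul_inv_eq_iff_eq_mul.1 h).symm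
      rcases IsSimpleGroup.eq_bot_or_eq_top_of_normal (Subgroup.center N) inferInstance with h | h
      · rw [h, Subgroup.mem_bot] at hJc
        exact D.ne_one (congrArg Subtype.val hJc)
      · exact hna ⟨⟨fun a b => (Subgroup.mem_center_iff.1 (h ▸ Subgroup.mem_top b) a)⟩⟩
    have hidx : 3 ∣ N.index := by
      obtain ⟨a, ha2, ha3⟩ := four_alt.2.2.2.1
      set c : G := (e.symm a : G) with hc
      have h3 : (QuotientGroup.mk c : G ⧸ N) ^ 3 = 1 := by
        rw [← QuotientGroup.mk_pow, hc, ← SubgroupClass.coe_pow, ← map_pow, ha3, map_one]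
        rfl
      have h1 : (QuotientGroup.mk c : G ⧸ N) ≠ 1 := fun h => by
        rw [QuotientGroup.eq_one_iff] at h
        have := hsq c (D.T_le (e.symm a).2) h
        rw [hc, ← Subgroup.coe_mul, ← map_mul] at this
        exact ha2 (e.symm.injective ((Subtype.ext this).trans (map_one e.symm).symm))
      rw [Subgroup.index_eq_card, ← orderOf_eq_prime (hp := ⟨Nat.prime_three⟩) h3 h1]
      exact orderOf_dvd_natCard _
    have hle : Nat.card (MulAut N) ≤ Nat.card G := by
      rw [hAut, ← N.card_mul_index, mul_comm 3]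
      exact Nat.mul_le_mul_left _ (Nat.le_of_dvd
        (Nat.pos_of_ne_zero Subgroup.index_ne_zero_of_finite) hidx)
    have heq : Nat.card G = Nat.card (MulAut N) :=
      le_antisymm (Nat.card_le_card_of_injective ψ hinj) hle
    exact ⟨(MulEquiv.ofBijective ψ ((Nat.bijective_iff_injective_and_card ψ).2 ⟨hinj, heq⟩)).trans
      (MulAut.congr ε)⟩

end Cfg

end CfsgLib.TwoTimesAlt
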