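import Cfsg.Prelude.Def_TwoFusion
import Cfsg.Prelude.Def_SporadicB
import Cfsg.Agent.Lib.TwoTimesAlt.Alt

/-!
# A two-central involution with centralizer `2 × T`: fusion by the parity of a transfer
-/

set_option autoImplicit false
set_option linter.unusedSectionVars false
set_option linter.style.haveILetI false

namespace CfsgLib.TwoTimesAlt

open scoped Pointwise

variable {G : Type*} [Group G]

/-- A two-central involution whose centralizer is `⟨J⟩ × T`, in a group without subgroups of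
index two. -/
structure Cfg [Finite G] (J : G) (T : Subgroup G) where
  ord : orderOf J = 2
  S : Sylow 2 G
  mem : J ∈ (S : Subgroup G)
  cent : ∀ s ∈ (S : Subgroup G), s * J = J * s
  prod : Cfsg.IsInternalDirectProduct (Subgroup.zpowers J) T (Subgroup.centralizer ({J} : Set G))
  no2 : ∀ N : Subgroup G, N.Normal → N.index ≠ 2

namespace Cfg

variable [Finite G] {J : G} {T : Subgroup G} (D : Cfg J T)

include D

theorem jj : J * J = 1 := by rw [← pow_two, ← D.ord, pow_orderOf_eq_one]

theorem ne_one : J ≠ 1 := fun h => by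
  have := D.ord
  rw [h, orderOf_one] at this
  norm_num at this

theorem T_le : T ≤ Subgroup.centralizer ({J} : Set G) := D.prod.2.1

theorem comm {x : G} (hx : x ∈ T) : x * J = J * x :=
  (D.prod.2.2.1 J (Subgroup.mem_zpowers J) x hx).symm

theorem not_mem : J ∉ T := fun h => D.ne_one
  (Subgroup.mem_bot.1 (D.prod.2.2.2.1.le (Subgroup.mem_inf.2 ⟨Subgroup.mem_zpowers J, h⟩)))

theorem mem_C {c : G} : c ∈ Subgroup.centralizer ({J} : Set G) ↔ c * J = J * c :=
  Subgroup.mem_centralizer_singleton_iff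

/-- The two cosets. -/
theorem cases_C {c : G} (hc : c ∈ Subgroup.centralizer ({J} : Set G)) : c ∈ T ∨ J * c ∈ T := by
  have hJx : ∀ x ∈ T, J * x = x * J := fun x hx => (D.comm hx).symm
  let K : Subgroup G :=
    { carrier := {c | c * J = J * c ∧ (c ∈ T ∨ J * c ∈ T)}
      one_mem' := ⟨by simp, Or.inl (one_mem T)⟩
      mul_mem' := fun {x y} ⟨cx, hx⟩ ⟨cy, hy⟩ => by
        refine ⟨by rw [mul_assoc, cy, ← mul_assoc, cx, mul_assoc], ?_⟩
        rcases hx with hx | hx <;> rcases hy with hy | hy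
        · exact Or.inl (mul_mem hx hy)
        · refine Or.inr ?_
          rw [← mul_assoc, hJx x hx, mul_assoc]
          exact mul_mem hx hy
        · refine Or.inr ?_
          rw [← mul_assoc]
          exact mul_mem hx hy
        · refine Or.inl ?_
          have := mul_mem hx hy
          rwa [mul_assoc J x, ← mul_assoc x J, cx, mul_assoc J x, ← mul_assoc J J, D.jj, one_mul]
            at this
      inv_mem' := fun {x} ⟨cx, hx⟩ => by
        have hci : x⁻¹ * J = J * x⁻¹ := (Commute.inv_left (show Commute x J from cx)).eq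
        refine ⟨hci, hx.imp inv_mem fun h => ?_⟩
        have := inv_mem h
        rwa [mul_inv_rev, inv_eq_of_mul_eq_one_right D.jj, hci] at this }
  have hle : Subgroup.zpowers J ⊔ T ≤ K := sup_le
    (Subgroup.zpowers_le.2 ⟨rfl, Or.inr (by rw [D.jj]; exact one_mem T)⟩)
    fun x hx => ⟨D.comm hx, Or.inl hx⟩
  rw [D.prod.2.2.2.2] at hle
  exact (hle hc).2

theorem conj_T {c x : G} (hc : c ∈ Subgroup.centralizer ({J} : Set G)) (hx : x ∈ T) :
    c * x * c⁻¹ ∈ T := by
  rcases D.cases_C hc with h | h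
  · exact mul_mem (mul_mem h hx) (inv_mem h)
  · have := mul_mem (mul_mem h hx) (inv_mem h)
    have hy : c * x * c⁻¹ * J = J * (c * x * c⁻¹) :=
      (D.mem_C).1 (mul_mem (mul_mem hc (D.T_le hx)) (inv_mem hc))
    rw [mul_inv_rev, inv_eq_of_mul_eq_one_right D.jj,
      show J * c * x * (c⁻¹ * J) = J * (c * x * c⁻¹ * J) by group, hy, ← mul_assoc J J, D.jj,
      one_mul] at this
    exact this

theorem relIndex_T : T.relIndex (Subgroup.centralizer ({J} : Set G)) = 2 := by
  refine Subgroup.index_eq_two_iff'.2 ⟨⟨J, (D.mem_C).2 rfl⟩, fun b => ?_⟩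
  simp only [Subgroup.mem_subgroupOf, Subgroup.coe_mul]
  rcases D.cases_C b.2 with h | h
  · refine Or.inr ⟨h, fun h' => D.not_mem ?_⟩
    simpa using mul_mem h' (inv_mem h)
  · refine Or.inl ⟨h, fun h' => D.not_mem ?_⟩
    simpa using mul_mem h (inv_mem h')

theorem S_le : (D.S : Subgroup G) ≤ Subgroup.centralizer ({J} : Set G) := fun s hs =>
  (D.mem_C).2 (D.cent s hs)

theorem odd_index : Odd (Subgroup.centralizer ({J} : Set G)).index := by
  haveI : Fact (Nat.Prime 2) := ⟨Nat.prime_two⟩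
  rw [← Nat.not_even_iff_odd, even_iff_two_dvd]
  exact fun h => D.S.not_dvd_index (h.trans (Subgroup.index_dvd_of_le D.S_le))

/-- The squares of the Sylow subgroup lie in `T`. -/
theorem sqSub_le : sqSub (D.S : Subgroup G) ≤ T := by
  refine sqSub_le_iff.2 fun s hs => ?_
  rcases D.cases_C (D.S_le hs) with h | h
  · exact mul_mem h h
  · have := mul_mem h h
    rwa [mul_assoc, ← mul_assoc s J, D.cent s hs, mul_assoc J s, ← mul_assoc J J, D.jj, one_mul]
      at this

/-- A number of conjugates in `T` is odd. -/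
theorem odd_conj_mem : Odd (Nat.card {v : G // IsConj J v ∧ v ∈ T}) := by
  classical
  haveI : Fact (Nat.Prime 2) := ⟨Nat.prime_two⟩
  set C := Subgroup.centralizer ({J} : Set G) with hC
  let _ : Fintype (G ⧸ T) := Fintype.ofFinite _
  let φ : G →* ℤˣ := Equiv.Perm.sign.comp (MulAction.toPermHom G (G ⧸ T))
  have hφ : φ J = 1 := by
    have hle : φ.range ≤ ⊤ := le_top
    have hd := Subgroup.card_subgroup_dvd_card φ.range
    rw [Nat.card_eq_fintype_card (α := ℤˣ), Fintype.card_units_int] at hd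
    rw [← φ.mem_ker]
    rcases (Nat.dvd_prime Nat.prime_two).1 hd with h | h
    · rw [Subgroup.index_eq_one.1 (show φ.ker.index = 1 by rw [Subgroup.index_ker, h])]
      exact Subgroup.mem_top _
    · exact absurd (show φ.ker.index = 2 by rw [Subgroup.index_ker, h]) (D.no2 _ inferInstance)
  set σ : Equiv.Perm (G ⧸ T) := MulAction.toPermHom G (G ⧸ T) J with hσ
  have hsign := Equiv.Perm.sign_of_pow_two_eq_one
    (show σ ^ 2 = 1 by rw [hσ, ← map_pow, pow_two, D.jj, map_one])
  rw [show Equiv.Perm.sign σ = 1 from hφ] at hsign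
  have hcard : Fintype.card (G ⧸ T) = 2 * C.index := by
    rw [← Nat.card_eq_fintype_card, ← Subgroup.index_eq_card, ← Subgroup.relIndex_mul_index D.T_le,
      D.relIndex_T]
  -- the fixed points
  set n := Nat.card {v : G // IsConj J v ∧ v ∈ T} with hn
  have hfix : Nat.card (Function.fixedPoints σ) * Nat.card T = n * Nat.card C := by
    have hiff : ∀ g : G, (QuotientGroup.mk g : G ⧸ T) ∈ Function.fixedPoints σ ↔
        g⁻¹ * J * g ∈ T := fun g => by
      show J • (QuotientGroup.mk g : G ⧸ T) = QuotientGroup.mk g ↔ _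
      rw [MulAction.Quotient.smul_mk, eq_comm, QuotientGroup.eq]
      simp [smul_eq_mul, mul_assoc]
    have hL : Nat.card {g : G // g⁻¹ * J * g ∈ T} = Nat.card T * Nat.card (Function.fixedPoints σ) := by
      rw [← Nat.card_prod]
      refine (Nat.card_congr ?_).trans
        (Nat.card_congr (QuotientGroup.preimageMkEquivSubgroupProdSet T (Function.fixedPoints σ)))
      exact Equiv.subtypeEquivRight fun g => (hiff g).symm
    let p : {g : G // g⁻¹ * J * g ∈ T} → {v : G // IsConj J v ∧ v ∈ T} := fun g =>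
      ⟨g.1⁻¹ * J * g.1, isConj_iff.2 ⟨g.1⁻¹, by rw [inv_inv]⟩, g.2⟩
    haveI := Fintype.ofFinite {v : G // IsConj J v ∧ v ∈ T}
    have hR : Nat.card {g : G // g⁻¹ * J * g ∈ T} = n * Nat.card C := by
      rw [← Nat.card_congr (Equiv.sigmaFiberEquiv p), Nat.card_sigma, hn,
        Nat.card_eq_fintype_card (α := {v : G // IsConj J v ∧ v ∈ T})]
      rw [Finset.sum_congr rfl (g := fun _ => Nat.card C) fun v _ => ?_, Finset.sum_const,
        Finset.card_univ, smul_eq_mul]
      obtain ⟨g₀, hg₀⟩ := isConj_iff.1 v.2.1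
      refine Nat.card_congr ⟨fun g => ⟨g.1.1 * g₀, ?_⟩, fun c => ⟨⟨(c : G) * g₀⁻¹, ?_⟩, ?_⟩,
        fun g => ?_, fun c => ?_⟩
      · have hg : g.1.1⁻¹ * J * g.1.1 = v.1 := congrArg Subtype.val g.2
        rw [D.mem_C]
        rw [← hg₀] at hg
        calc g.1.1 * g₀ * J = g.1.1 * (g₀ * J * g₀⁻¹) * g₀ := by group
          _ = g.1.1 * (g.1.1⁻¹ * J * g.1.1) * g₀ := by rw [hg]
          _ = J * (g.1.1 * g₀) := by group
      · have hc := (D.mem_C).1 c.2
        rw [mul_inv_rev, inv_inv, mul_assoc g₀, ← mul_assoc (g₀ * _), mul_assoc g₀, mul_assoc _ J,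
          ← hc, inv_mul_cancel_left, hg₀]
        exact v.2.2
      · refine Subtype.ext ?_
        have hc := (D.mem_C).1 c.2
        show ((c : G) * g₀⁻¹)⁻¹ * J * ((c : G) * g₀⁻¹) = v.1
        rw [mul_inv_rev, inv_inv, mul_assoc g₀, ← mul_assoc (g₀ * _), mul_assoc g₀, mul_assoc _ J,
          ← hc, inv_mul_cancel_left, hg₀]
      · exact Subtype.ext (Subtype.ext (by simp))
      · exact Subtype.ext (by simp)
    rw [← hR, hL, mul_comm]
  have hCT : Nat.card C = 2 * Nat.card T := by
    rw [← Subgroup.card_mul_index (T.subgroupOf C)]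
    rw [show (T.subgroupOf C).index = 2 from D.relIndex_T,
      Nat.card_congr (Subgroup.subgroupOfEquivOfLe D.T_le).toEquiv, mul_comm]
  rw [hCT, ← mul_assoc, mul_comm n 2] at hfix
  have hF := Nat.eq_of_mul_eq_mul_right Nat.card_pos hfix
  rw [Nat.card_eq_fintype_card] at hF
  have hle : Fintype.card (Function.fixedPoints σ) ≤ Fintype.card (G ⧸ T) := Fintype.card_subtype_le _
  rw [hcard, hF] at hle
  rw [hcard, hF, ← Nat.mul_sub, Nat.mul_div_cancel_left _ two_pos] at hsign
  have heven : Even (C.index - n) := (neg_one_pow_eq_one_iff_even (by decide)).1 hsign.symm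
  have := D.odd_index
  rw [← hC] at this
  rw [Nat.even_iff] at heven
  rw [Nat.odd_iff] at this ⊢
  omega

theorem mem_S_of_comm {v : G} (hv : v * v = 1) (hc : ∀ s ∈ (D.S : Subgroup G), s * v = v * s) :
    v ∈ (D.S : Subgroup G) := by
  have hle : Subgroup.zpowers v ≤ Subgroup.normalizer ((D.S : Subgroup G) : Set G) := by
    rw [Subgroup.zpowers_le]
    refine Subgroup.centralizer_le_normalizer _ ?_
    exact Subgroup.mem_centralizer_iff.2 hc
  have hpz : IsPGroup 2 (Subgroup.zpowers v) := fun x => ⟨1, by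
    obtain ⟨x, n, rfl⟩ := x
    apply Subtype.ext
    show (v ^ n) ^ (2 ^ 1) = 1
    rw [pow_one, ← zpow_natCast, zpow_comm, zpow_natCast, pow_two, hv, one_zpow]⟩
  have hp := D.S.2.to_sup_of_normal_left' hpz hle
  exact (D.S.3 hp le_sup_left).le (le_sup_right (a := (D.S : Subgroup G)) (Subgroup.mem_zpowers v))

/-- Some conjugate of the involution in `T` centralizes the Sylow subgroup. -/
theorem exists_central_conj : ∃ u ∈ T, IsConj J u ∧ ∀ s ∈ (D.S : Subgroup G), s * u = u * s := by
  classical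
  haveI : Fact (Nat.Prime 2) := ⟨Nat.prime_two⟩
  letI : MulAction (D.S : Subgroup G) {v : G // IsConj J v ∧ v ∈ T} :=
    { smul := fun s v => ⟨(s : G) * v.1 * (s : G)⁻¹, v.2.1.trans (isConj_iff.2 ⟨s, rfl⟩),
        D.conj_T (D.S_le s.2) v.2.2⟩
      one_smul := fun v => Subtype.ext (show (1 : G) * v.1 * (1 : G)⁻¹ = v.1 by simp)
      mul_smul := fun a b v => Subtype.ext (show (a : G) * b * v.1 * ((a : G) * b)⁻¹ =
        (a : G) * ((b : G) * v.1 * (b : G)⁻¹) * (a : G)⁻¹ by group) }
  have h := D.S.2.card_modEq_card_fixedPoints {v : G // IsConj J v ∧ v ∈ T}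
  have hne : Nonempty (MulAction.fixedPoints (D.S : Subgroup G) {v : G // IsConj J v ∧ v ∈ T}) := by
    by_contra hne
    rw [not_nonempty_iff] at hne
    have ho := D.odd_conj_mem
    rw [Nat.odd_iff, show _ % 2 = _ % 2 from h, Nat.card_of_isEmpty] at ho
    omega
  obtain ⟨v, hv⟩ := hne
  refine ⟨v.1, v.2.2, v.2.1, fun s hs => ?_⟩
  exact mul_inv_eq_iff_eq_mul.1 (congrArg Subtype.val (hv ⟨s, hs⟩) : s * v.1 * s⁻¹ = v.1)

theorem sq_of_conj {v : G} (hv : IsConj J v) : v * v = 1 ∧ v ≠ 1 := by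
  obtain ⟨g, rfl⟩ := isConj_iff.1 hv
  refine ⟨?_, fun h => D.ne_one ?_⟩
  · rw [show g * J * g⁻¹ * (g * J * g⁻¹) = g * (J * J) * g⁻¹ by group, D.jj, mul_one, mul_inv_cancel]
  · rwa [mul_inv_eq_one, mul_eq_left] at h

/-- Such a conjugate is not a product of squares in the Sylow subgroup. -/
theorem not_mem_sqSub {u : G} (hu : IsConj J u) (hc : ∀ s ∈ (D.S : Subgroup G), s * u = u * s) :
    u ∉ sqSub (D.S : Subgroup G) := by
  haveI : Fact (Nat.Prime 2) := ⟨Nat.prime_two⟩
  intro husq
  obtain ⟨g, rfl⟩ := isConj_iff.1 hu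
  obtain ⟨n, hn, he⟩ := D.S.conj_eq_normalizer_conj_of_mem_centralizer J g⁻¹
    (Subgroup.mem_centralizer_iff.2 fun s hs => D.cent s hs)
    (Subgroup.mem_centralizer_iff.2 fun s hs => by rw [inv_inv]; exact hc s hs)
  rw [inv_inv] at he
  rw [he] at husq
  have h := conj_mem_sqSub hn husq
  rw [show n * (n⁻¹ * J * n) * n⁻¹ = J by group] at h
  exact D.not_mem (D.sqSub_le h)

/-- The degree is four or five. -/
theorem degree {m : ℕ} (e : T ≃* alternatingGroup (Fin m)) : m = 4 ∨ m = 5 := by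
  haveI : Fact (Nat.Prime 2) := ⟨Nat.prime_two⟩
  obtain ⟨u, huT, hu, hc⟩ := D.exists_central_conj
  obtain ⟨hu2, hu1⟩ := D.sq_of_conj hu
  set y := e ⟨u, huT⟩ with hy
  have hy2 : y * y = 1 := by
    rw [hy, ← map_mul, show (⟨u, huT⟩ : T) * ⟨u, huT⟩ = 1 from Subtype.ext hu2, map_one]
  have hy1 : y ≠ 1 := fun h => hu1 (by
    rw [hy, ← map_one e] at h
    exact congrArg Subtype.val (e.injective h))
  by_contra hm
  rw [not_or] at hm
  by_cases h6 : 6 ≤ m
  · refine D.not_mem_sqSub hu hc ?_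
    obtain ⟨Q, hQ, hQy, hyQ⟩ := exists_two_group h6 y hy2 hy1
    set f : alternatingGroup (Fin m) →* G := T.subtype.comp e.symm.toMonoidHom with hf
    have hfy : f y = u := by
      show ((e.symm (e ⟨u, huT⟩)) : G) = u
      rw [e.symm_apply_apply]
    set K := Subgroup.centralizer ({J, u} : Set G) with hK
    have hSK : (D.S : Subgroup G) ≤ K := fun s hs => Subgroup.mem_centralizer_iff.2 fun z hz => by
      rcases hz with rfl | rfl
      · exact (D.cent s hs).symm
      · exact (hc s hs).symm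
    have hQK : Q.map f ≤ K := by
      rintro _ ⟨q, hq, rfl⟩
      refine Subgroup.mem_centralizer_iff.2 fun z hz => ?_
      rcases hz with rfl | rfl
      · exact (D.comm (e.symm q).2).symm
      · rw [← hfy, ← map_mul, ← map_mul, hQy q hq]
    obtain ⟨R, hR⟩ := ((hQ.map f).comap_of_injective K.subtype K.subtype_injective).exists_le_sylow
    obtain ⟨c, hcR⟩ := MulAction.exists_smul_eq K R (D.S.subtype hSK)
    have h := mem_sqSub_map (MulAut.conj (c : G)).toMonoidHom (mem_sqSub_map f hyQ)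
    rw [hfy] at h
    have hcu : (c : G) * u * (c : G)⁻¹ = u := by
      rw [← Subgroup.mem_centralizer_iff.1 c.2 u (Set.mem_insert_of_mem _ rfl), mul_inv_cancel_right]
    rw [show (MulAut.conj (c : G)).toMonoidHom u = u from hcu] at h
    refine sqSub_mono ?_ h
    rintro _ ⟨x, hx, rfl⟩
    have hxR : (⟨x, hQK hx⟩ : K) ∈ (R : Subgroup K) := hR (show K.subtype ⟨x, hQK hx⟩ ∈ Q.map f from hx)
    have := Subgroup.smul_mem_pointwise_smul _ (MulAut.conj c) _ hxR
    rw [← Sylow.coe_subgroup_smul, hcR, Sylow.coe_subtype, Subgroup.mem_subgroupOf] at this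
    exact this
  · have hlt : m ≤ 3 := by omega
    revert hy2 hy1
    generalize y = z
    interval_cases m <;> revert z <;> decide +kernel

end Cfg

end CfsgLib.TwoTimesAlt
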