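import Cfsg.Agent.Lib.TwoTimesAlt.Setup
import Cfsg.Agent.Lib.Base.Cores
import Cfsg.Agent.Lib.Base.MinimalNormal
import Cfsg.Agent.Lib.Chars.Irr
import Cfsg.Agent.Lib.Chars.Burnside

/-!
# Degree four or five: fusion, trivial core and the minimal normal subgroup
-/

set_option autoImplicit false
set_option linter.unusedSectionVars false
set_option linter.style.haveILetI false
set_option synthInstance.maxSize 20000
set_option synthInstance.maxHeartbeats 200000

namespace CfsgLib.TwoTimesAlt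

open Cfsg CfsgLib.Base
open scoped Pointwise

/-- What is used about the alternating groups of degree four and five. -/
structure SmallAlt (A : Type*) [Group A] : Prop where
  conj : ∀ a : A, a * a = 1 → a ≠ 1 → ∀ b : A, b * b = 1 → b ≠ 1 → ∃ c, c * a = b * c
  sq : ∀ a : A, a ^ 8 = 1 → a * a = 1
  odd : ∀ a : A, a ^ 15 = 1 → a ≠ 1 → ∃ c, c * (a * a) * c⁻¹ * a ≠ 1 ∧
    c * (a * a) * c⁻¹ * a * (c * (a * a) * c⁻¹ * a) = 1
  exp : ∀ a : A, a ^ 30 = 1

theorem smallAlt_four : SmallAlt (alternatingGroup (Fin 4)) :=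
  ⟨by decide +kernel, by decide +kernel, by decide +kernel, by decide +kernel⟩

theorem smallAlt_five : SmallAlt (alternatingGroup (Fin 5)) :=
  ⟨by decide +kernel, by decide +kernel, by decide +kernel, by decide +kernel⟩

theorem smallAlt_of {m : ℕ} (h : m = 4 ∨ m = 5) : SmallAlt (alternatingGroup (Fin m)) := by
  rcases h with rfl | rfl
  · exact smallAlt_four
  · exact smallAlt_five

theorem SmallAlt.of_equiv {A B : Type*} [Group A] [Group B] (h : SmallAlt B) (e : A ≃* B) :
    SmallAlt A := by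
  have h1 : ∀ {a : A}, a ≠ 1 → e a ≠ 1 := fun ha he => ha (e.injective (he.trans (map_one e).symm))
  have h2 : ∀ {a : A}, a * a = 1 → e a * e a = 1 := fun ha => by rw [← map_mul, ha, map_one]
  refine ⟨fun a ha ha1 b hb hb1 => ?_, fun a ha => ?_, fun a ha ha1 => ?_, fun a => ?_⟩
  · obtain ⟨c, hc⟩ := h.conj _ (h2 ha) (h1 ha1) _ (h2 hb) (h1 hb1)
    exact ⟨e.symm c, e.injective (by simp [hc])⟩
  · exact e.injective (by rw [map_mul, map_one, h.sq (e a) (by rw [← map_pow, ha, map_one])])
  · obtain ⟨c, hc1, hc2⟩ := h.odd (e a) (by rw [← map_pow, ha, map_one]) (h1 ha1)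
    refine ⟨e.symm c, fun hh => hc1 ?_, e.injective (by simp [hc2])⟩
    have := congrArg e hh
    simpa using this
  · exact e.injective (by rw [map_pow, map_one, h.exp])

variable {G : Type*} [Group G] [Finite G] {J : G} {T : Subgroup G}

namespace Cfg

variable (D : Cfg J T) (hA : SmallAlt T)

include D hA

theorem sq_S {s : G} (hs : s ∈ (D.S : Subgroup G)) : s * s = 1 := by
  obtain ⟨k, hk⟩ := D.S.2 ⟨s, hs⟩
  have hk' : s ^ (2 ^ k) = 1 := congrArg Subtype.val hk
  have key : ∀ x : G, x ∈ T → x ^ (2 ^ k) = 1 → x * x = 1 := fun x hx hxk => by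
    refine congrArg Subtype.val (hA.sq ⟨x, hx⟩ (Subtype.ext ?_))
    show x ^ 8 = 1
    have h30 : x ^ 30 = 1 := congrArg Subtype.val (hA.exp ⟨x, hx⟩)
    have hd := Nat.dvd_gcd (orderOf_dvd_of_pow_eq_one hxk) (orderOf_dvd_of_pow_eq_one h30)
    refine orderOf_dvd_iff_pow_eq_one.1 (hd.trans ?_)
    obtain ⟨j, -, hj⟩ := (Nat.dvd_prime_pow Nat.prime_two).1 (Nat.gcd_dvd_left (2 ^ k) 30)
    have hj30 : 2 ^ j ∣ 30 := hj ▸ Nat.gcd_dvd_right (2 ^ k) 30
    rw [hj]
    have hj3 : j ≤ 3 := by
      by_contra hc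
      have := (Nat.pow_dvd_pow 2 (show 4 ≤ j by omega)).trans hj30
      norm_num at this
    exact Nat.pow_dvd_pow 2 hj3
  rcases D.cases_C (D.S_le hs) with h | h
  · exact key s h hk'
  · have hc : Commute J s := (D.cent s hs).symm
    have he : (J * s) * (J * s) = s * s := by
      rw [← pow_two, hc.mul_pow, pow_two, pow_two, D.jj, one_mul]
    rw [← he]
    refine key _ h ?_
    rcases Nat.eq_zero_or_pos k with rfl | hk0
    · exfalso
      rw [pow_zero, pow_one] at hk'
      subst hk'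
      rw [mul_one] at h
      exact D.not_mem h
    · obtain ⟨j, hj⟩ := Nat.exists_eq_add_of_le hk0
      rw [hc.mul_pow, hk', hj, show Nat.succ 0 + j = j + 1 by omega, pow_succ', pow_mul, pow_two,
        D.jj, one_pow, one_mul]

theorem comm_S {a b : G} (ha : a ∈ (D.S : Subgroup G)) (hb : b ∈ (D.S : Subgroup G)) :
    a * b = b * a := by
  have h := D.sq_S hA (mul_mem ha hb)
  calc a * b = a * (a * b * (a * b)) * b := by rw [h, mul_one]
    _ = (a * a) * (b * a) * (b * b) := by group
    _ = b * a := by rw [D.sq_S hA ha, D.sq_S hA hb, one_mul, mul_one]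

theorem isConj_T {a b : G} (ha : a ∈ T) (hb : b ∈ T) (ha2 : a * a = 1) (hb2 : b * b = 1)
    (ha1 : a ≠ 1) (hb1 : b ≠ 1) : ∃ c ∈ T, c * a * c⁻¹ = b := by
  obtain ⟨c, hc⟩ := hA.conj ⟨a, ha⟩ (Subtype.ext ha2) (fun h => ha1 (congrArg Subtype.val h))
    ⟨b, hb⟩ (Subtype.ext hb2) (fun h => hb1 (congrArg Subtype.val h))
  exact ⟨c, c.2, by rw [mul_inv_eq_iff_eq_mul]; exact congrArg Subtype.val hc⟩

/-- All involutions are conjugate. -/
theorem all_conj {v : G} (hv : v * v = 1) (hv1 : v ≠ 1) : IsConj J v := by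
  classical
  haveI : Fact (Nat.Prime 2) := ⟨Nat.prime_two⟩
  obtain ⟨u, huT, hu, hus⟩ := D.exists_central_conj
  obtain ⟨hu2, hu1⟩ := D.sq_of_conj hu
  have hT : ∀ w ∈ T, w * w = 1 → w ≠ 1 → IsConj J w := fun w hw hw2 hw1 => by
    obtain ⟨c, -, hc⟩ := D.isConj_T hA huT hw hu2 hw2 hu1 hw1
    exact hu.trans (isConj_iff.2 ⟨c, hc⟩)
  have hinvC : ∀ x ∈ Subgroup.centralizer ({J} : Set G), x * x = 1 → J * x ∈ T →
      J * x * (J * x) = 1 := fun x hx hx2 _ => by
    rw [mul_assoc, ← mul_assoc x J, (D.mem_C).1 hx, mul_assoc J x, ← mul_assoc J J, D.jj, one_mul, hx2]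
  -- some involution outside `T` other than `J`
  obtain ⟨w, hwT, hw2, hw1, hw⟩ : ∃ w ∈ T, w * w = 1 ∧ w ≠ 1 ∧ IsConj J (J * w) := by
    by_contra hno
    push Not at hno
    letI : MulAction (D.S : Subgroup G) {x : G // IsConj J x} :=
      { smul := fun s x => ⟨(s : G) * x.1 * (s : G)⁻¹, x.2.trans (isConj_iff.2 ⟨s, rfl⟩)⟩
        one_smul := fun x => Subtype.ext (show (1 : G) * x.1 * (1 : G)⁻¹ = x.1 by simp)
        mul_smul := fun a b x => Subtype.ext (show (a : G) * b * x.1 * ((a : G) * b)⁻¹ =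
          (a : G) * ((b : G) * x.1 * (b : G)⁻¹) * (a : G)⁻¹ by group) }
    have hmod := D.S.2.card_modEq_card_fixedPoints {x : G // IsConj J x}
    have hodd : Odd (Nat.card {x : G // IsConj J x}) := by
      have h := CfsgLib.Chars.card_isConj_mul_card_centralizer J
      rw [← Subgroup.index_mul_card (Subgroup.centralizer ({J} : Set G))] at h
      rw [Nat.eq_of_mul_eq_mul_right Nat.card_pos h]
      exact D.odd_index
    set O := MulAction.fixedPoints (D.S : Subgroup G) {x : G // IsConj J x}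
    have hO : ∀ x : O, x.1.1 ∈ (D.S : Subgroup G) ∧ (x.1.1 ∈ T ∨ x.1.1 = J) := fun x => by
      obtain ⟨h2, h1⟩ := D.sq_of_conj x.1.2
      have hc : ∀ s ∈ (D.S : Subgroup G), s * x.1.1 = x.1.1 * s := fun s hs =>
        mul_inv_eq_iff_eq_mul.1 (congrArg Subtype.val (x.2 ⟨s, hs⟩) : s * x.1.1 * s⁻¹ = x.1.1)
      refine ⟨D.mem_S_of_comm h2 hc, ?_⟩
      have hxC : x.1.1 ∈ Subgroup.centralizer ({J} : Set G) := (D.mem_C).2 (hc J D.mem).symm
      refine (D.cases_C hxC).imp id fun h => ?_
      by_contra hne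
      refine hno (J * x.1.1) h (hinvC _ hxC h2 h) (fun he => hne ?_) ?_
      · exact (mul_left_cancel (he.trans D.jj.symm))
      · rw [← mul_assoc, D.jj, one_mul]
        exact x.1.2
    let f : O → ((D.S : Subgroup G) ⊓ T : Subgroup G) := fun x =>
      if h : x.1.1 = J then 1 else ⟨x.1.1, (hO x).1, ((hO x).2.resolve_right h)⟩
    have hf : Function.Bijective f := by
      refine ⟨fun a b hab => ?_, fun y => ?_⟩
      · apply Subtype.ext
        apply Subtype.ext
        simp only [f] at hab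
        have h1 := fun x : O => (D.sq_of_conj x.1.2).2
        split_ifs at hab with ha hb hb
        · rw [ha, hb]
        · exact absurd (congrArg Subtype.val hab).symm (h1 b)
        · exact absurd (congrArg Subtype.val hab) (h1 a)
        · exact congrArg (fun z : ((D.S : Subgroup G) ⊓ T : Subgroup G) => (z : G)) hab
      · by_cases hy : (y : G) = 1
        · refine ⟨⟨⟨J, IsConj.refl J⟩, fun s => Subtype.ext ?_⟩, ?_⟩
          · exact mul_inv_eq_iff_eq_mul.2 (D.cent s s.2)
          · simp only [f, dif_pos]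
            exact Subtype.ext hy.symm
        · refine ⟨⟨⟨y, hT y y.2.2 (D.sq_S hA y.2.1) hy⟩, fun s => Subtype.ext ?_⟩, ?_⟩
          · exact mul_inv_eq_iff_eq_mul.2 (D.comm_S hA s.2 y.2.1)
          · simp only [f]
            rw [dif_neg fun e : (y : G) = J => D.not_mem (e ▸ y.2.2)]
    have hev : 2 ∣ Nat.card ((D.S : Subgroup G) ⊓ T : Subgroup G) := by
      have hmem : u ∈ (D.S : Subgroup G) ⊓ T := ⟨D.mem_S_of_comm hu2 hus, huT⟩
      have ho := orderOf_eq_prime (p := 2) (x := (⟨u, hmem⟩ : ((D.S : Subgroup G) ⊓ T : Subgroup G)))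
        (Subtype.ext (by show u ^ 2 = 1; rw [pow_two, hu2])) fun e => hu1 (congrArg Subtype.val e)
      exact ho.symm.dvd.trans (orderOf_dvd_natCard _)
    rw [← Nat.card_congr (Equiv.ofBijective f hf)] at hev
    rw [Nat.odd_iff, show _ % 2 = _ % 2 from hmod] at hodd
    omega
  -- an involution of the Sylow subgroup
  have hS : ∀ x ∈ (D.S : Subgroup G), x ≠ 1 → IsConj J x := fun x hx hx1 => by
    have hx2 := D.sq_S hA hx
    rcases D.cases_C (D.S_le hx) with h | h
    · exact hT x h hx2 hx1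
    · by_cases he : J * x = 1
      · rw [mul_left_cancel (he.trans D.jj.symm)]
      · obtain ⟨c, hc, hce⟩ := D.isConj_T hA hwT h hw2 (hinvC x (D.S_le hx) hx2 h) hw1 he
        refine hw.trans (isConj_iff.2 ⟨c, ?_⟩)
        calc c * (J * w) * c⁻¹ = J * (c * w * c⁻¹) := by
              rw [← mul_assoc c J, D.comm hc]; group
          _ = x := by rw [hce, ← mul_assoc, D.jj, one_mul]
  obtain ⟨R, hR⟩ := (IsPGroup.of_card (n := 1) (show Nat.card (Subgroup.zpowers v) = 2 ^ 1 by
    rw [Nat.card_zpowers, pow_one]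
    exact orderOf_eq_prime (by rw [pow_two, hv]) hv1)).exists_le_sylow
  obtain ⟨g, hg⟩ := MulAction.exists_smul_eq G R D.S
  have hmem : g * v * g⁻¹ ∈ (D.S : Subgroup G) := by
    rw [← hg, Sylow.coe_subgroup_smul]
    exact Subgroup.smul_mem_pointwise_smul v (MulAut.conj g) _ (hR (Subgroup.mem_zpowers v))
  exact (hS _ hmem fun e => hv1 (by rwa [mul_inv_eq_one, mul_eq_left] at e)).trans
    (isConj_iff.2 ⟨g⁻¹, by group⟩)

/-- An element of odd order in a normal odd subgroup commutes with the involution only trivially. -/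
theorem eq_one_of_odd_normal {O : Subgroup G} [O.Normal] (hO : Odd (Nat.card O)) {x : G}
    (hx : x ∈ O) (hc : x * J = J * x) : x = 1 := by
  obtain ⟨k, hk⟩ := (Odd.of_dvd_nat hO (orderOf_dvd_natCard (⟨x, hx⟩ : O)))
  rw [Subgroup.orderOf_mk] at hk
  have hodd : Odd (orderOf x) := ⟨k, hk⟩
  have hxT : x ∈ T := by
    refine (D.cases_C ((D.mem_C).2 hc)).resolve_right fun h => D.not_mem ?_
    have h30 := congrArg Subtype.val (hA.exp ⟨_, h⟩)
    have h1 : ((J * x) ^ orderOf x : G) ∈ T := pow_mem h _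
    rw [(show Commute J x from hc.symm).mul_pow, pow_orderOf_eq_one, mul_one, hk, pow_succ, pow_mul,
      pow_two, D.jj, one_pow, one_mul] at h1
    exact h1
  have h15 : x ^ 15 = 1 := by
    refine orderOf_dvd_iff_pow_eq_one.1 ?_
    exact (Nat.Coprime.dvd_of_dvd_mul_left (Nat.coprime_two_right.2 hodd)
      (orderOf_dvd_of_pow_eq_one (show x ^ (2 * 15) = 1 from congrArg Subtype.val (hA.exp ⟨x, hxT⟩))))
  by_contra hx1
  obtain ⟨c, hc1, hc2⟩ := hA.odd ⟨x, hxT⟩ (Subtype.ext h15) fun e => hx1 (congrArg Subtype.val e)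
  set w : G := (c : G) * (x * x) * (c : G)⁻¹ * x with hw
  have hwO : w ∈ O := mul_mem (Subgroup.Normal.conj_mem inferInstance _ (mul_mem hx hx) c) hx
  have hw2 : w * w = 1 := congrArg Subtype.val hc2
  have hd : orderOf (⟨w, hwO⟩ : O) ∣ 2 :=
    orderOf_dvd_of_pow_eq_one (Subtype.ext (by show w ^ 2 = 1; rw [pow_two, hw2]))
  rcases (Nat.dvd_prime Nat.prime_two).1 hd with h | h
  · exact hc1 (Subtype.ext (congrArg Subtype.val (orderOf_eq_one_iff.1 h) : w = 1))
  · exact Nat.not_even_iff_odd.2 hO (even_iff_two_dvd.2 (h ▸ orderOf_dvd_natCard _))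

/-- The core is trivial. -/
theorem oddCore_eq_bot : oddCore G = ⊥ := by
  set O := oddCore G with hOdef
  have hO : Odd (Nat.card O) := le_oddCore_iff.1 le_rfl
  obtain ⟨u, huT, hu, -⟩ := D.exists_central_conj
  obtain ⟨hu2, hu1⟩ := D.sq_of_conj hu
  have hcu := D.comm huT
  have hcomm : ∀ v, IsConj J v → ∀ x ∈ O, v * x * v⁻¹ = x⁻¹ := by
    intro v hv x hx
    obtain ⟨g, rfl⟩ := isConj_iff.1 hv
    set v := g * J * g⁻¹ with hvdef
    have hfix : ∀ y ∈ O, y * v = v * y → y = 1 := fun y hy hyv => by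
      have h := D.eq_one_of_odd_normal hA hO (x := g⁻¹ * y * g)
        (by simpa using Subgroup.Normal.conj_mem (H := O) inferInstance y hy g⁻¹) (by
          calc g⁻¹ * y * g * J = g⁻¹ * (y * v) * g := by rw [hvdef]; group
            _ = g⁻¹ * (v * y) * g := by rw [hyv]
            _ = J * (g⁻¹ * y * g) := by rw [hvdef]; group)
      calc y = g * (g⁻¹ * y * g) * g⁻¹ := by group
        _ = 1 := by rw [h]; group
    let f : O → O := fun y => ⟨(y : G)⁻¹ * (v * y * v⁻¹),
      mul_mem (inv_mem y.2) (Subgroup.Normal.conj_mem inferInstance _ y.2 v)⟩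
    have hf : Function.Injective f := fun a b hab => by
      have h : (a : G)⁻¹ * (v * a * v⁻¹) = (b : G)⁻¹ * (v * b * v⁻¹) := congrArg Subtype.val hab
      have h' := hfix ((b : G) * (a : G)⁻¹) (mul_mem b.2 (inv_mem a.2)) (by
        calc (b : G) * (a : G)⁻¹ * v
            = (b : G) * ((a : G)⁻¹ * (v * a * v⁻¹)) * v * (a : G)⁻¹ := by group
          _ = (b : G) * ((b : G)⁻¹ * (v * b * v⁻¹)) * v * (a : G)⁻¹ := by rw [h]
          _ = v * ((b : G) * (a : G)⁻¹) := by group)
      exact (Subtype.ext (mul_inv_eq_one.1 h')).symm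
    obtain ⟨⟨y, hy⟩, hyx⟩ := (Finite.injective_iff_surjective.1 hf) ⟨x, hx⟩
    have hyx' : y⁻¹ * (v * y * v⁻¹) = x := congrArg Subtype.val hyx
    have hvv : v * v = 1 := (D.sq_of_conj hv).1
    have hvi : v⁻¹ = v := inv_eq_of_mul_eq_one_right hvv
    rw [← hyx', hvi]
    clear_value v
    calc v * (y⁻¹ * (v * y * v)) * v = v * y⁻¹ * v * y * (v * v) := by group
      _ = v⁻¹ * y⁻¹ * v⁻¹ * y := by rw [hvv, mul_one, hvi]
      _ = (y⁻¹ * (v * y * v))⁻¹ := by group
  rw [Subgroup.eq_bot_iff_forall]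
  intro x hx
  have hJu : IsConj J (J * u) := D.all_conj hA
    (by rw [mul_assoc, ← mul_assoc u J, hcu, mul_assoc J u, hu2, mul_one, D.jj])
    fun e => D.not_mem ((mul_left_cancel (e.trans D.jj.symm)) ▸ huT)
  have h1 := hcomm _ hu x hx
  have h2 := hcomm _ (IsConj.refl J) _ (inv_mem hx)
  have h3 := hcomm _ hJu x hx
  rw [show J * u * x * (J * u)⁻¹ = J * (u * x * u⁻¹) * J⁻¹ by group, h1, h2, inv_inv] at h3
  have h4 : x * x = 1 := by nth_rewrite 2 [h3]; exact mul_inv_cancel x
  have hd : orderOf (⟨x, hx⟩ : O) ∣ 2 :=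
    orderOf_dvd_of_pow_eq_one (Subtype.ext (by show x ^ 2 = 1; rw [pow_two, h4]))
  rcases (Nat.dvd_prime Nat.prime_two).1 hd with h | h
  · exact congrArg Subtype.val (orderOf_eq_one_iff.1 h)
  · exact absurd (h ▸ orderOf_dvd_natCard (⟨x, hx⟩ : O))
      (fun hd' => Nat.not_even_iff_odd.2 hO (even_iff_two_dvd.2 hd'))

/-- A nontrivial normal subgroup contains every involution. -/
theorem inv_mem_normal {N : Subgroup G} [N.Normal] (hne : N ≠ ⊥) {v : G} (hv : v * v = 1) : v ∈ N := by
  by_cases hv1 : v = 1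
  · rw [hv1]; exact one_mem N
  haveI : Fact (Nat.Prime 2) := ⟨Nat.prime_two⟩
  have h2 : 2 ∣ Nat.card N := by
    by_contra h
    exact hne (le_bot_iff.1 (D.oddCore_eq_bot hA ▸
      le_oddCore (Nat.not_even_iff_odd.1 fun he => h (even_iff_two_dvd.1 he))))
  obtain ⟨x, hx⟩ := exists_prime_orderOf_dvd_card' (G := N) 2 h2
  have hx2 : (x : G) * x = 1 := by
    rw [← pow_two, ← Subgroup.orderOf_coe] at *
    rw [← hx, pow_orderOf_eq_one]
  have hx1 : (x : G) ≠ 1 := fun e => by
    rw [← Subgroup.orderOf_coe, e, orderOf_one] at hx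
    norm_num at hx
  obtain ⟨g, hg⟩ := isConj_iff.1 ((D.all_conj hA hx2 hx1).symm.trans (D.all_conj hA hv hv1))
  rw [← hg]
  exact Subgroup.Normal.conj_mem inferInstance _ x.2 g

/-- An involution normalizing the Sylow subgroup lies in it. -/
theorem mem_S_of_normalize {v : G} (hv : v * v = 1)
    (hn : v ∈ Subgroup.normalizer ((D.S : Subgroup G) : Set G)) : v ∈ (D.S : Subgroup G) := by
  have hpz : IsPGroup 2 (Subgroup.zpowers v) := fun x => ⟨1, by
    obtain ⟨x, n, rfl⟩ := x
    apply Subtype.ext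
    show (v ^ n) ^ (2 ^ 1) = 1
    rw [pow_one, ← zpow_natCast, zpow_comm, zpow_natCast, pow_two, hv, one_zpow]⟩
  have hp := D.S.2.to_sup_of_normal_left' hpz (Subgroup.zpowers_le.2 hn)
  exact (D.S.3 hp le_sup_left).le (le_sup_right (a := (D.S : Subgroup G)) (Subgroup.mem_zpowers v))

theorem S_le_normal {N : Subgroup G} [N.Normal] (hne : N ≠ ⊥) : (D.S : Subgroup G) ≤ N :=
  fun _ hs => D.inv_mem_normal hA hne (D.sq_S hA hs)

/-- A minimal normal subgroup which is not the Sylow subgroup is simple. -/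
theorem isSimple_minimal {N : Subgroup G} (hN : IsMinimalNormal N) (hnS : ¬ IsPGroup 2 N) :
    IsSimpleGroup N := by
  haveI : Fact (Nat.Prime 2) := ⟨Nat.prime_two⟩
  haveI := hN.normal
  haveI : Nontrivial N := (Subgroup.nontrivial_iff_ne_bot N).2 hN.ne_bot
  refine { eq_bot_or_eq_top_of_normal := fun M hM => or_iff_not_imp_left.2 fun hMne => ?_ }
  -- a minimal normal subgroup of `N` inside `M`
  haveI := hM
  obtain ⟨M₀, hM₀le, hM₀⟩ := exists_isMinimalNormal_le (N := M) hMne
  haveI := hM₀.normal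
  have hnc : Subgroup.center N = ⊥ := by
    haveI : ((Subgroup.center N).map N.subtype).Normal := inferInstance
    rcases hN.eq_bot_or_eq (K := (Subgroup.center N).map N.subtype) inferInstance
      (Subgroup.map_subtype_le _) with h | h
    · exact (Subgroup.map_eq_bot_iff_of_injective _ N.subtype_injective).1 h
    · exfalso
      have hc : Subgroup.center N = ⊤ := by
        rw [← (Subgroup.map_injective N.subtype_injective).eq_iff, h, ← MonoidHom.range_eq_map,
          Subgroup.range_subtype]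
      haveI : IsMulCommutative N := ⟨⟨fun a b =>
        (Subgroup.mem_center_iff.1 (hc ▸ Subgroup.mem_top b) a)⟩⟩
      haveI : Group.IsSolvable N := Group.isSolvable_of_comm fun a b => mul_comm' a b
      obtain ⟨p, hp, -, hexp, hpg⟩ := hN.exists_prime inferInstance
      have hp2 : p = 2 := by
        have := orderOf_dvd_of_pow_eq_one (hexp J (D.inv_mem_normal hA hN.ne_bot D.jj))
        rw [D.ord] at this
        exact ((Nat.prime_dvd_prime_iff_eq Nat.prime_two hp).1 this).symm
      exact hnS (hp2 ▸ hpg)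
  -- every involution of `G` lies in the subgroup `M₀`
  set L := M₀.map N.subtype with hL
  have hLN : L ≤ N := Subgroup.map_subtype_le _
  have hLne : L ≠ ⊥ := fun h =>
    hM₀.ne_bot ((Subgroup.map_eq_bot_iff_of_injective _ N.subtype_injective).1 h)
  have hLnorm : ∀ n ∈ N, ∀ x ∈ L, n * x * n⁻¹ ∈ L := by
    rintro n hn _ ⟨x, hx, rfl⟩
    exact ⟨⟨n, hn⟩ * x * ⟨n, hn⟩⁻¹, Subgroup.Normal.conj_mem inferInstance x hx _, rfl⟩
  have hcen : ∀ z ∈ N, (∀ y ∈ N, z * y = y * z) → z = 1 := fun z hz h => by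
    have : (⟨z, hz⟩ : N) ∈ Subgroup.center N :=
      Subgroup.mem_center_iff.2 fun y => Subtype.ext (h y y.2).symm
    rw [hnc, Subgroup.mem_bot] at this
    exact congrArg Subtype.val this
  suffices hgL : ∀ g : G, ∀ x ∈ L, g * x * g⁻¹ ∈ L by
    haveI hLn : L.Normal := ⟨fun x hx g => hgL g x hx⟩
    have hLeq := (hN.eq_bot_or_eq hLn hLN).resolve_left hLne
    have : M₀ = ⊤ := by
      rw [← (Subgroup.map_injective N.subtype_injective).eq_iff, ← hL, hLeq, ← MonoidHom.range_eq_map,
        Subgroup.range_subtype]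
    exact top_le_iff.1 (this ▸ hM₀le)
  -- conjugates of `L` are minimal normal in `N`; distinct ones commute
  have hdisj : ∀ g : G, (∀ x ∈ L, g * x * g⁻¹ ∈ L) ∨
      ∀ x ∈ L, ∀ y ∈ L, (g * x * g⁻¹) * y = y * (g * x * g⁻¹) := by
    intro g
    let cg : MulAut N := MulAut.conjNormal g
    set M₁ := M₀.map cg.toMonoidHom with hM₁
    haveI hM₁n : M₁.Normal := Subgroup.Normal.map inferInstance _ cg.surjective
    have hval : ∀ x : N, ((cg x : N) : G) = g * x * g⁻¹ := fun x => MulAut.conjNormal_apply g x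
    rcases hM₀.le_or_inf_eq_bot M₁ with h | h
    · left
      have hcard : Nat.card M₁ = Nat.card M₀ :=
        Subgroup.card_map_of_injective cg.injective
      have heq : M₀ = M₁ := Subgroup.eq_of_le_of_card_ge h hcard.le
      rintro _ ⟨x, hx, rfl⟩
      exact ⟨cg x, heq ▸ ⟨x, hx, rfl⟩, hval x⟩
    · right
      rintro _ ⟨x, hx, rfl⟩ _ ⟨y, hy, rfl⟩
      have hc := Subgroup.commute_of_normal_of_disjoint M₁ M₀ inferInstance inferInstance
        (disjoint_iff.2 (by rw [inf_comm]; exact h)) (cg x) y ⟨x, hx, rfl⟩ hy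
      have := congrArg Subtype.val hc.eq
      simpa [hval] using this
  -- an involution of `L`
  obtain ⟨x, hxL, hx2, hx1⟩ : ∃ x ∈ L, x * x = 1 ∧ x ≠ 1 := by
    by_contra hno
    push Not at hno
    have hodd : Odd (Nat.card M₀) := by
      rw [← Nat.not_even_iff_odd, even_iff_two_dvd]
      intro h2
      obtain ⟨x, hx⟩ := exists_prime_orderOf_dvd_card' (G := M₀) 2 h2
      have hxx : ((x : N) : G) * ((x : N) : G) = 1 := by
        have := pow_orderOf_eq_one x
        rw [hx, pow_two] at this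
        exact congrArg (fun z : M₀ => ((z : N) : G)) this
      have h1 : x = 1 := Subtype.ext (Subtype.ext (hno ((x : N) : G) ⟨x, x.2, rfl⟩ hxx))
      rw [h1, orderOf_one] at hx
      norm_num at hx
    have hON : oddCore N = ⊥ := by
      haveI : ((oddCore N).map N.subtype).Normal := by
        haveI : (oddCore N).Characteristic := inferInstance
        infer_instance
      refine (Subgroup.map_eq_bot_iff_of_injective _ N.subtype_injective).1 (le_bot_iff.1 ?_)
      rw [← D.oddCore_eq_bot hA]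
      refine le_oddCore ?_
      rw [Subgroup.card_map_of_injective N.subtype_injective]
      exact le_oddCore_iff.1 le_rfl
    exact hM₀.ne_bot (le_bot_iff.1 (hON ▸ le_oddCore hodd))
  intro g
  rcases hdisj g with hgood | hg
  · exact hgood
  exfalso
  set x' := g * x * g⁻¹ with hx'def
  have hxx' : x' * x = x * x' := hg x hxL x hxL
  have hx'2 : x' * x' = 1 := by
    rw [hx'def, show g * x * g⁻¹ * (g * x * g⁻¹) = g * (x * x) * g⁻¹ by group, hx2, mul_one,
      mul_inv_cancel]
  have hx'N : x' ∈ N := Subgroup.Normal.conj_mem inferInstance x (hLN hxL) g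
  -- `x` is not central, so some element of `L` does not commute with it
  obtain ⟨y, hy, hyx⟩ : ∃ y ∈ L, y * x ≠ x * y := by
    by_contra hno
    push Not at hno
    -- the centre of `M₀` is trivial
    set Z := (Subgroup.center M₀).map M₀.subtype with hZdef
    haveI : Z.Normal := inferInstance
    rcases hM₀.eq_bot_or_eq (K := Z) inferInstance (Subgroup.map_subtype_le _) with h | h
    · obtain ⟨x₀, hx₀, hx₀e⟩ := hxL
      have hmem : x₀ ∈ Z := ⟨⟨x₀, hx₀⟩, Subgroup.mem_center_iff.2 fun w => Subtype.ext (Subtype.ext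
        (by subst hx₀e; exact hno _ ⟨w, w.2, rfl⟩)), rfl⟩
      rw [h, Subgroup.mem_bot] at hmem
      exact hx1 (by rw [← hx₀e, hmem]; rfl)
    · -- `L` abelian
      have hab : ∀ a ∈ L, ∀ b ∈ L, a * b = b * a := by
        rintro _ ⟨a, ha, rfl⟩ _ ⟨b, hb, rfl⟩
        obtain ⟨a', ha', hae⟩ := (h.symm ▸ ha : a ∈ Z)
        have := congrArg Subtype.val (Subgroup.mem_center_iff.1 ha' ⟨b, hb⟩)
        rw [← hae]
        exact (congrArg Subtype.val this).symm
      haveI : IsMulCommutative M₀ := ⟨⟨fun a b => Subtype.ext (Subtype.ext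
        (hab _ ⟨a, a.2, rfl⟩ _ ⟨b, b.2, rfl⟩))⟩⟩
      have hF : fittingSubgroup N ≠ ⊥ := fun hb =>
        hM₀.ne_bot (le_bot_iff.1 (hb ▸ le_fittingSubgroup_of_isMulCommutative))
      haveI : ((fittingSubgroup N).map N.subtype).Normal := by
        haveI : (fittingSubgroup N).Characteristic := inferInstance
        infer_instance
      rcases hN.eq_bot_or_eq (K := (fittingSubgroup N).map N.subtype) inferInstance
        (Subgroup.map_subtype_le _) with h' | h'
      · exact hF ((Subgroup.map_eq_bot_iff_of_injective _ N.subtype_injective).1 h')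
      · have htop : fittingSubgroup N = ⊤ := by
          rw [← (Subgroup.map_injective N.subtype_injective).eq_iff, h', ← MonoidHom.range_eq_map,
            Subgroup.range_subtype]
        haveI : Group.IsNilpotent N := fittingSubgroup_eq_top_iff.1 htop
        obtain ⟨p, hp, -, hexp, hpg⟩ := hN.exists_prime inferInstance
        have hp2 : p = 2 := by
          have := orderOf_dvd_of_pow_eq_one (hexp J (D.inv_mem_normal hA hN.ne_bot D.jj))
          rw [D.ord] at this
          exact ((Nat.prime_dvd_prime_iff_eq Nat.prime_two hp).1 this).symm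
        exact hnS (hp2 ▸ hpg)
  -- the product is conjugate to `x`
  have hprod2 : x * x' * (x * x') = 1 := by
    rw [mul_assoc, ← mul_assoc x' x, hxx', mul_assoc x x', hx'2, mul_one, hx2]
  by_cases hprod1 : x * x' = 1
  · have : x' = x := mul_left_cancel (hprod1.trans hx2.symm)
    exact hyx (this ▸ (hg x hxL y hy).symm)
  obtain ⟨h, hh⟩ := isConj_iff.1
    ((D.all_conj hA hx2 hx1).symm.trans (D.all_conj hA hprod2 hprod1))
  have hcy : x' * y = y * x' := hg x hxL y hy
  rcases hdisj h with hgood | hcom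
  · -- the product lies in `L`, hence so does `x'`
    have hxL' : x' ∈ L := by
      have := mul_mem (inv_mem hxL) (hgood x hxL)
      rwa [hh, inv_mul_cancel_left] at this
    refine hyx ?_
    have hcon : ∀ b ∈ L, g * b * g⁻¹ * x' = x' * (g * b * g⁻¹) := fun b hb => hg b hb x' hxL'
    -- `x'` commutes with the conjugate of `L` containing it
    have h2 : g * y * g⁻¹ * (g * x * g⁻¹) = g * x * g⁻¹ * (g * y * g⁻¹) := hcon y hy
    calc y * x = g⁻¹ * (g * y * g⁻¹ * (g * x * g⁻¹)) * g := by group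
      _ = g⁻¹ * (g * x * g⁻¹ * (g * y * g⁻¹)) * g := by rw [h2]
      _ = x * y := by group
  · refine hyx ?_
    have h1 := hcom x hxL y hy
    rw [hh] at h1
    have h2 : x * y * x' = y * x * x' := by
      rw [mul_assoc x, ← hcy, ← mul_assoc, h1, mul_assoc]
    exact (mul_right_cancel h2).symm

end Cfg

end CfsgLib.TwoTimesAlt
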