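import Mathlib

/-!
# The subgroup generated by squares
-/

set_option autoImplicit false

namespace CfsgLib.TwoTimesAlt

variable {G : Type*} [Group G]

/-- The subgroup generated by the squares of the elements of `Q`. -/
def sqSub (Q : Subgroup G) : Subgroup G := Subgroup.closure ((fun x => x * x) '' (Q : Set G))

theorem sq_mem {Q : Subgroup G} {x : G} (hx : x ∈ Q) : x * x ∈ sqSub Q :=
  Subgroup.subset_closure ⟨x, hx, rfl⟩

theorem sqSub_le_iff {Q K : Subgroup G} : sqSub Q ≤ K ↔ ∀ x ∈ Q, x * x ∈ K := by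
  rw [sqSub, Subgroup.closure_le]
  exact ⟨fun h x hx => h ⟨x, hx, rfl⟩, fun h _ ⟨x, hx, e⟩ => e ▸ h x hx⟩

theorem sqSub_mono {Q R : Subgroup G} (h : Q ≤ R) : sqSub Q ≤ sqSub R :=
  sqSub_le_iff.2 fun _ hx => sq_mem (h hx)

theorem mem_sqSub_map {H : Type*} [Group H] (f : G →* H) {Q : Subgroup G} {y : G}
    (hy : y ∈ sqSub Q) : f y ∈ sqSub (Q.map f) := by
  revert y
  show sqSub Q ≤ (sqSub (Q.map f)).comap f
  refine sqSub_le_iff.2 fun x hx => ?_
  show f (x * x) ∈ sqSub (Q.map f)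
  rw [map_mul]
  exact sq_mem ⟨x, hx, rfl⟩

/-- Commutators are products of squares. -/
theorem commutator_mem {Q : Subgroup G} {a b : G} (ha : a ∈ Q) (hb : b ∈ Q) :
    a * b * a⁻¹ * b⁻¹ ∈ sqSub Q := by
  have e : a * b * a⁻¹ * b⁻¹ = (a * b) * (a * b) * ((b⁻¹ * a⁻¹ * b) * (b⁻¹ * a⁻¹ * b)) *
      (b⁻¹ * b⁻¹) := by group
  rw [e]
  exact mul_mem (mul_mem (sq_mem (mul_mem ha hb))
    (sq_mem (mul_mem (mul_mem (inv_mem hb) (inv_mem ha)) hb))) (sq_mem (inv_mem hb))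

theorem conj_mem_sqSub {S : Subgroup G} {n : G} (hn : n ∈ Subgroup.normalizer (S : Set G)) {y : G}
    (hy : y ∈ sqSub S) : n * y * n⁻¹ ∈ sqSub S := by
  have h := mem_sqSub_map (MulAut.conj n).toMonoidHom hy
  refine sqSub_mono ?_ h
  rintro _ ⟨x, hx, rfl⟩
  exact (Subgroup.mem_normalizer_iff.1 hn x).1 hx

end CfsgLib.TwoTimesAlt
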